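import Cfsg.Agent.Known.AutPSLn.Invol.Models
import Cfsg.Agent.Known.Sympl.Transvection
import Cfsg.Agent.Classical.Orth.OddCharTwo

/-!
Involutory graph automorphisms in characteristic two.
-/

set_option autoImplicit false
set_option linter.unusedSectionVars false
set_option linter.style.haveILetI false
set_option linter.unusedSimpArgs false

namespace Cfsg.Lib.Known.AutPSLn.Invol

open Matrix Cfsg.Lib.Classical

variable {F : Type*} [Field F] [Fintype F] [CharP F 2] {n : ℕ}

local notation "GLn" => GL (Fin n) F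
local notation "Mn" => Matrix (Fin n) (Fin n) F

theorem exists_sq (z : F) : ∃ r : F, r * r = z := by
  obtain ⟨r, hr⟩ := FiniteField.isSquare_of_char_two (F := F) (ringChar.eq F 2) z
  exact ⟨r, hr.symm⟩

theorem sq_inj {x y : F} (h : x * x = y * y) : x = y := by
  rcases mul_self_eq_mul_self_iff.1 h with h | h
  · exact h
  · rw [h, CharTwo.neg_eq]

section Scalars

variable {ι : Type} [Fintype ι] [DecidableEq ι]

/-- The isometries of a form. -/
abbrev Isom (f : (ι → F) → (ι → F) → F) : Subgroup (GL ι F) := Cfsg.preserving (Units.coeHom (Matrix ι ι F)) f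

theorem mem_Isom {f : (ι → F) → (ι → F) → F} {g : GL ι F} :
    g ∈ Isom f ↔ ∀ u v, f ((g : Matrix ι ι F) *ᵥ u) ((g : Matrix ι ι F) *ᵥ v) = f u v := Iff.rfl

theorem scalar_one {f : (ι → F) → (ι → F) → F} (hs : ∀ (a : F) u v, f (a • u) (a • v) = a * a * f u v)
    (hne : ∃ u v, f u v ≠ 0) {k : GL ι F} (hk : k ∈ Isom f) (hsc : k ∈ Cfsg.Geo.scalars ι F) : k = 1 := by
  obtain ⟨c, hc⟩ := (Cfsg.Geo.mem_scalars_iff _).1 hsc
  obtain ⟨u, v, huv⟩ := hne
  have h := mem_Isom.1 hk u v
  rw [hc, smul_mulVec, one_mulVec, smul_mulVec, one_mulVec, hs] at h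
  have hc1 : (c : F) = 1 := sq_inj (mul_right_cancel₀ huv (by linear_combination h))
  exact Units.ext (by rw [hc, hc1, one_smul, Units.val_one])

theorem exists_scalar (c : Fˣ) : ∃ z ∈ Cfsg.Geo.scalars ι F, ∃ r : F, (z : Matrix ι ι F) = r • 1 ∧ r * r * c = 1 := by
  obtain ⟨r, hr⟩ := exists_sq ((c⁻¹ : Fˣ) : F)
  have hr0 : r ≠ 0 := fun h => (c⁻¹).ne_zero (by rw [← hr, h, mul_zero])
  refine ⟨Units.map (Matrix.scalar ι : F →+* Matrix ι ι F).toMonoidHom (Units.mk0 r hr0), ⟨_, rfl⟩, r, ?_, ?_⟩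
  · show Matrix.scalar ι r = _
    rw [scalar_apply, smul_one_eq_diagonal]
  · rw [hr, Units.inv_mul]

theorem sim_char_two {f : (ι → F) → (ι → F) → F} (hs : ∀ (a : F) u v, f (a • u) (a • v) = a * a * f u v)
    (hne : ∃ u v, f u v ≠ 0) : Nonempty (Isom f ≃* Cfsg.projQuot (Cfsg.Geo.similarityGroup f)) := by
  refine projQuot_equiv (fun g hg => ⟨1, fun u v => by rw [Units.val_one, one_mul]; exact hg u v⟩) ?_
    fun k hk hsc => scalar_one hs hne hk hsc
  rintro g ⟨c, hc⟩
  obtain ⟨z, hz, r, hr, hrc⟩ := exists_scalar (ι := ι) c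
  refine ⟨z, hz, mem_Isom.2 fun u v => ?_⟩
  rw [Units.val_mul, hr, smul_mul_assoc, one_mul, smul_mulVec, smul_mulVec, hs, hc, ← mul_assoc, hrc, one_mul]

theorem quad_char_two (Q : QuadraticForm F (ι → F)) (hne : ∃ v, Q v ≠ 0) :
    Nonempty (Cfsg.isometryGroup F ⇑Q ≃* Cfsg.PGO F ⇑Q) := by
  refine projQuot_equiv (fun g hg => ⟨1, fun v => by rw [Units.val_one, one_mul]; exact hg v v⟩) ?_
    fun k hk hsc => scalar_one (f := fun u _ => Q u)
      (fun a u v => by rw [QuadraticMap.map_smul, smul_eq_mul]) ⟨hne.choose, hne.choose, hne.choose_spec⟩ hk hsc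
  rintro g ⟨c, hc⟩
  obtain ⟨z, hz, r, hr, hrc⟩ := exists_scalar (ι := ι) c
  refine ⟨z, hz, fun u _ => ?_⟩
  show Q (((z * g : GL ι F) : Matrix ι ι F) *ᵥ u) = Q u
  rw [Units.val_mul, hr, smul_mul_assoc, one_mul, smul_mulVec, QuadraticMap.map_smul, hc, smul_eq_mul, ← mul_assoc,
    hrc, one_mul]

end Scalars

section Models

variable {m : ℕ}

local notation "Vec" => (Fin m ⊕ Fin m → F)
local notation "Big" => Matrix (Fin m ⊕ Fin m) (Fin m ⊕ Fin m) F
local notation "Vec1" => (Unit ⊕ (Fin m ⊕ Fin m) → F)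
local notation "Spm" => Matrix.symplecticGroup (Fin m) F
local notation "Bf" => sympBilin m F

/-- The nonalternating model in even dimension. -/
noncomputable def tvForm (v : Vec) : LinearMap.BilinForm F Vec :=
  Bf + LinearMap.BilinForm.linMulLin ((Bf).flip v) ((Bf).flip v)

theorem tvForm_apply (v x y : Vec) : tvForm v x y = Bf x y + Bf x v * Bf y v := rfl

/-- The model in odd dimension. -/
noncomputable def oneForm (m : ℕ) (F : Type*) [Field F] : LinearMap.BilinForm F (Unit ⊕ (Fin m ⊕ Fin m) → F) :=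
  LinearMap.BilinForm.linMulLin (LinearMap.proj (Sum.inl ())) (LinearMap.proj (Sum.inl ())) +
    (sympBilin m F).comp (LinearMap.funLeft F F Sum.inr) (LinearMap.funLeft F F Sum.inr)

theorem oneForm_apply (x y : Vec1) :
    oneForm m F x y = x (.inl ()) * y (.inl ()) + Bf (fun i => x (.inr i)) (fun i => y (.inr i)) := rfl

theorem symp_comm (x y : Vec) : Bf x y = Bf y x := by
  rw [← (sympBilin_isAlt m F).neg_eq, CharTwo.neg_eq]

theorem eq_of_symp {y z : Vec} (h : ∀ x, Bf x y = Bf x z) : y = z :=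
  sub_eq_zero.1 ((sympBilin_nondegenerate m F).2 _ fun x => by rw [map_sub, h, sub_self])

theorem tvForm_nondeg {v : Vec} : (tvForm v).Nondegenerate := by
  have hs : ∀ x y, tvForm v x y = tvForm v y x := fun x y => by
    rw [tvForm_apply, tvForm_apply, symp_comm x y, mul_comm]
  have h2 : ∀ y, (∀ x, tvForm v x y = 0) → y = 0 := fun y h => by
    have hy : y = Bf y v • v := eq_of_symp fun x => by
      rw [map_smul, smul_eq_mul, mul_comm, ← CharTwo.add_eq_zero, ← tvForm_apply]; exact h x
    have h0 : Bf y v = 0 := by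
      conv_lhs => rw [hy]
      rw [map_smul, LinearMap.smul_apply, sympBilin_isAlt m F v, smul_zero]
    rw [hy, h0, zero_smul]
  exact ⟨fun x h => h2 x fun y => (hs y x).trans (h y), h2⟩

theorem oneForm_nondeg : (oneForm m F).Nondegenerate := by
  have h1 : ∀ x : Vec1, (∀ y, oneForm m F x y = 0) → x = 0 := fun x h => by
    have e : (fun i => x (.inr i)) = (0 : Vec) := (sympBilin_nondegenerate m F).1 _ fun y => by
      simpa [oneForm_apply] using h (Sum.elim 0 y)
    funext i
    rcases i with i | i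
    · simpa [oneForm_apply, Pi.single_apply, e] using h (Pi.single (.inl ()) 1)
    · exact congrFun e i
  have hs : ∀ x y, oneForm m F x y = oneForm m F y x := fun x y => by
    rw [oneForm_apply, oneForm_apply, symp_comm, mul_comm]
  exact ⟨h1, fun y h => h1 y fun x => (hs y x).trans (h x)⟩

theorem isom_symp : Nonempty (Spm ≃* Cfsg.PGSp m F) := by
  rcases Nat.eq_zero_or_pos m with rfl | hm
  · haveI : Subsingleton (Cfsg.GSp 0 F) := ⟨fun a b => Subtype.ext (Units.ext (Subsingleton.elim _ _))⟩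
    haveI : Subsingleton (Cfsg.PGSp 0 F) := Quot.Subsingleton
    exact ⟨⟨⟨fun _ => 1, fun _ => 1, fun _ => Subsingleton.elim _ _, fun _ => Subsingleton.elim _ _⟩,
      fun _ _ => Subsingleton.elim _ _⟩⟩
  have e : Isom (Cfsg.sympForm m F) = (spToGL : Spm →* GL (Fin m ⊕ Fin m) F).range := by
    ext g
    rw [mem_range_spToGL, mem_symplectic_iff_form]
    simp only [sympBilin_eq_sympForm]
    exact Iff.rfl
  obtain ⟨φ⟩ := sim_char_two (f := Cfsg.sympForm m F)
    (fun a u v => by
      simp only [← sympBilin_eq_sympForm, map_smul, LinearMap.smul_apply, smul_eq_mul, ← mul_assoc])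
    ⟨Pi.single (.inr ⟨0, hm⟩) 1, Pi.single (.inl ⟨0, hm⟩) 1, by
      rw [← sympBilin_eq_sympForm, sympBilin_eq_sum]; simp [Pi.single_apply]⟩
  exact ⟨((MonoidHom.ofInjective spToGL_injective).trans (MulEquiv.subgroupCongr e.symm)).trans φ⟩

theorem isom_tv (v : Vec) : Nonempty (Sympl.vecStab v ≃* Isom (fun x y => tvForm v x y)) := by
  let f : Sympl.vecStab v →* GL (Fin m ⊕ Fin m) F := spToGL.comp (Sympl.vecStab v).subtype
  have hf : Function.Injective f := spToGL_injective.comp Subtype.val_injective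
  have hr : f.range = Isom (fun x y => tvForm v x y) := by
    ext g
    constructor
    · rintro ⟨⟨A, hA⟩, rfl⟩
      refine mem_Isom.2 fun x y => ?_
      show tvForm v ((A : Big) *ᵥ x) ((A : Big) *ᵥ y) = _
      have hv : ∀ z, Bf ((A : Big) *ᵥ z) v = Bf z v := fun z => by
        conv_lhs => rw [← (show (A : Big) *ᵥ v = v from hA)]
        rw [Sympl.sp_form]
      rw [tvForm_apply, tvForm_apply, Sympl.sp_form, hv, hv]
    · intro h
      have h' : ∀ x y, tvForm v ((g : Big) *ᵥ x) ((g : Big) *ᵥ y) = tvForm v x y := mem_Isom.1 h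
      have hφ : ∀ x, Bf ((g : Big) *ᵥ x) v = Bf x v := fun x => sq_inj (by
        have := h' x x
        rwa [tvForm_apply, tvForm_apply, sympBilin_isAlt m F _, sympBilin_isAlt m F _, zero_add, zero_add] at this)
      have hsp : (g : Big) ∈ Matrix.symplecticGroup (Fin m) F := (mem_symplectic_iff_form _).2 fun x y => by
        have := h' x y
        rwa [tvForm_apply, tvForm_apply, hφ, hφ, add_left_inj] at this
      have hv : (g : Big) *ᵥ v = v := eq_of_symp fun x => by
        obtain ⟨z, rfl⟩ : ∃ z, (g : Big) *ᵥ z = x :=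
          ⟨((g⁻¹ : GL (Fin m ⊕ Fin m) F) : Big) *ᵥ x, by rw [mulVec_mulVec, g.mul_inv, one_mulVec]⟩
        rw [(mem_symplectic_iff_form _).1 hsp, hφ]
      exact ⟨⟨⟨_, hsp⟩, hv⟩, Units.ext rfl⟩
  exact ⟨(MonoidHom.ofInjective hf).trans (MulEquiv.subgroupCongr hr)⟩

theorem isom_one : Nonempty (Spm ≃* Isom (fun x y => oneForm m F x y)) := by
  let h0 : Spm →* Matrix (Unit ⊕ (Fin m ⊕ Fin m)) (Unit ⊕ (Fin m ⊕ Fin m)) F :=
    { toFun := fun A => Matrix.fromBlocks 1 0 0 (A : Big)
      map_one' := by simp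
      map_mul' := fun A B => by simp [fromBlocks_multiply] }
  let f : Spm →* GL (Unit ⊕ (Fin m ⊕ Fin m)) F := h0.toHomUnits
  have happ : ∀ (A : Spm) (x : Vec1), ((f A : GL (Unit ⊕ (Fin m ⊕ Fin m)) F) : Matrix (Unit ⊕ (Fin m ⊕ Fin m)) (Unit ⊕ (Fin m ⊕ Fin m)) F) *ᵥ x =
      Sum.elim (fun _ => x (.inl ())) ((A : Big) *ᵥ fun i => x (.inr i)) := fun A x => by
    show Matrix.fromBlocks (1 : Matrix Unit Unit F) 0 0 (A : Big) *ᵥ x = _
    rw [fromBlocks_mulVec]
    simp [Function.comp_def]
  have hf : Function.Injective f := fun A B h => Subtype.ext (fromBlocks_inj.1 (congrArg Units.val h)).2.2.2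
  have hr : f.range = Isom (fun x y => oneForm m F x y) := by
    ext g
    constructor
    · rintro ⟨A, rfl⟩
      refine mem_Isom.2 fun x y => ?_
      show oneForm m F _ _ = _
      rw [happ, happ, oneForm_apply, oneForm_apply]
      simp [Sympl.sp_form]
    · intro h
      set G := (g : Matrix (Unit ⊕ (Fin m ⊕ Fin m)) (Unit ⊕ (Fin m ⊕ Fin m)) F) with hG
      have h' : ∀ x y, oneForm m F (G *ᵥ x) (G *ᵥ y) = oneForm m F x y := mem_Isom.1 h
      have hφ : ∀ x, (G *ᵥ x) (.inl ()) = x (.inl ()) := fun x => sq_inj (by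
        have := h' x x
        rwa [oneForm_apply, oneForm_apply, sympBilin_isAlt m F _, sympBilin_isAlt m F _, add_zero, add_zero] at this)
      set e0 : Vec1 := Pi.single (.inl ()) 1 with he0
      have hone : ∀ z, oneForm m F z e0 = z (.inl ()) := fun z => by
        rw [oneForm_apply, show (fun i => e0 (.inr i)) = (0 : Vec) from funext fun i => by simp [he0]]
        simp [he0]
      have hfix : G *ᵥ e0 = e0 := sub_eq_zero.1 (oneForm_nondeg.2 _ fun x => by
        obtain ⟨z, rfl⟩ : ∃ z, G *ᵥ z = x :=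
          ⟨((g⁻¹ : GL (Unit ⊕ (Fin m ⊕ Fin m)) F) : Matrix _ _ F) *ᵥ x, by rw [mulVec_mulVec, hG, g.mul_inv, one_mulVec]⟩
        rw [map_sub, h', hone, hone, hφ, sub_self])
      set A : Big := G.toBlocks₂₂
      have hGA : G = Matrix.fromBlocks 1 0 0 A := by
        ext i j
        rcases i with i | i <;> rcases j with j | j
        · have := hφ e0
          simpa [he0, mulVec_single_one] using this
        · have := hφ (Pi.single (.inr j) 1)
          simpa [mulVec_single_one] using this
        · have := congrFun hfix (.inr i)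
          simpa [he0, mulVec_single_one] using this
        · rfl
      have hsp : A ∈ Matrix.symplecticGroup (Fin m) F := (mem_symplectic_iff_form _).2 fun x y => by
        have := h' (Sum.elim 0 x) (Sum.elim 0 y)
        rw [hGA, oneForm_apply, oneForm_apply, fromBlocks_mulVec, fromBlocks_mulVec] at this
        simpa [Function.comp_def] using this
      exact ⟨⟨A, hsp⟩, Units.ext hGA.symm⟩
  exact ⟨(MonoidHom.ofInjective hf).trans (MulEquiv.subgroupCongr hr)⟩

theorem isTransvection_tv {v : Vec} (hv : v ≠ 0) :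
    Cfsg.IsTransvection ((Sympl.tv v 1 : Spm) : Big) := by
  have hd : ∀ x, (((Sympl.tv v 1 : Spm) : Big) - 1) *ᵥ x = Bf x v • v := fun x => by
    rw [sub_mulVec, one_mulVec, Sympl.tv_mulVec, one_mul, add_sub_cancel_left]
  refine ⟨?_, Sympl.mat_ext fun x => ?_⟩
  · obtain ⟨y, hy⟩ : ∃ y : Vec, Bf y v ≠ 0 := by
      by_contra h
      push Not at h
      exact hv ((sympBilin_nondegenerate m F).2 v h)
    have hr : LinearMap.range (((Sympl.tv v 1 : Spm) : Big) - 1).mulVecLin = Submodule.span F {v} := by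
      refine le_antisymm ?_ ((Submodule.span_singleton_le_iff_mem _ _).2 ⟨(Bf y v)⁻¹ • y, ?_⟩)
      · rintro _ ⟨x, rfl⟩
        rw [mulVecLin_apply, hd]
        exact Submodule.smul_mem _ _ (Submodule.mem_span_singleton_self v)
      · rw [mulVecLin_apply, hd, map_smul, LinearMap.smul_apply, smul_eq_mul, inv_mul_cancel₀ hy, one_smul]
    rw [Matrix.rank, hr, finrank_span_singleton hv]
  · rw [← mulVec_mulVec, hd, hd, map_smul, LinearMap.smul_apply, sympBilin_isAlt m F v, smul_zero, zero_smul,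
      zero_mulVec]

end Models

theorem frame_nonalt {A : GLn} (hA : (A : Mn)ᵀ = A) (hne : ∃ x, formOf (A : Mn) x x ≠ 0) :
    (∃ m, n = 2 * m + 1 ∧ HasFrame A (fun x y => oneForm m F x y)) ∨
      ∃ m, n = 2 * m ∧ ∀ v : Fin m ⊕ Fin m → F, v ≠ 0 → HasFrame A (fun x y => tvForm v x y) := by
  set β : LinearMap.BilinForm F (Fin n → F) := Matrix.toBilin' (A : Mn) with hβ
  have hβa : ∀ x y, formOf (A : Mn) x y = β x y := fun x y => (Matrix.toBilin'_apply' _ _ _).symm
  have hs : ∀ x y, β x y = β y x := fun x y => by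
    rw [← hβa, ← hβa, ← formOf_transpose, hA]
  have hnd : β.Nondegenerate := toBilin_nondeg A
  obtain ⟨r, hr⟩ := Classical.axiomOfChoice (exists_sq (F := F))
  have hadd : ∀ x y, β (x + y) (x + y) = β x x + β y y := fun x y => by
    simp only [map_add, LinearMap.add_apply]
    rw [hs y x]
    have := CharTwo.add_self_eq_zero (β x y)
    linear_combination this
  let φ : Module.Dual F (Fin n → F) :=
    { toFun := fun x => r (β x x)
      map_add' := fun x y => sq_inj (by
        rw [hr, hadd]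
        linear_combination -hr (β x x) - hr (β y y) - CharTwo.add_self_eq_zero (r (β x x) * r (β y y)))
      map_smul' := fun c x => sq_inj (by
        simp only [RingHom.id_apply, smul_eq_mul, hr, map_smul, LinearMap.smul_apply]
        linear_combination -c * c * hr (β x x)) }
  obtain ⟨e, he⟩ : ∃ e, ∀ x, β x e * β x e = β x x := by
    refine ⟨(β.toDual hnd).symm φ, fun x => ?_⟩
    rw [hs x ((β.toDual hnd).symm φ), LinearMap.BilinForm.apply_toDual_symm_apply]
    exact hr _
  have hB : ∀ x, β x x + β x e * β x e = 0 := fun x => by rw [he, CharTwo.add_self_eq_zero]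
  let B : LinearMap.BilinForm F (Fin n → F) := β + LinearMap.BilinForm.linMulLin (β.flip e) (β.flip e)
  have hBa : ∀ x y, B x y = β x y + β x e * β y e := fun x y => rfl
  have hBalt : B.IsAlt := fun x => (hBa x x).trans (hB x)
  have he0 : e ≠ 0 := by
    rintro rfl
    obtain ⟨x, hx⟩ := hne
    exact hx (by rw [hβa, ← he x, map_zero, zero_mul])
  rcases mul_eq_zero.1 (show β e e * (β e e - 1) = 0 by linear_combination he e) with h0 | h1
  · right
    have h2 : ∀ y, (∀ x, B x y = 0) → y = 0 := fun y h => by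
      have hy : y = β y e • e := sub_eq_zero.1 (hnd.2 _ fun x => by
        rw [map_sub, map_smul, smul_eq_mul, CharTwo.sub_eq_add, mul_comm, ← hBa, h])
      have : β y e = 0 := by
        conv_lhs => rw [hy]
        rw [map_smul, LinearMap.smul_apply, h0, smul_zero]
      rw [hy, this, zero_smul]
    have hBnd : B.Nondegenerate :=
      ⟨fun x h => h2 x fun y => by
        have := h y; rw [hBa, hs x y, mul_comm] at this; rw [hBa]; exact this, h2⟩
    obtain ⟨m, -, hd, -⟩ := exists_symplectic_basis_nondegenerate hBalt hBnd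
    obtain ⟨es, hes⟩ := exists_isometry_sympBilin hBalt hBnd hd
    refine ⟨m, by rw [← hd, Module.finrank_fin_fun], fun v hv => ?_⟩
    obtain ⟨g, hg⟩ := Sympl.transitive hv (fun h => he0 (es.map_eq_zero_iff.1 h) : es e ≠ 0)
    let Lg : (Fin m ⊕ Fin m → F) ≃ₗ[F] (Fin m ⊕ Fin m → F) :=
      ((sympEquiv m F g : BilinIsom (sympBilin m F)) : (Fin m ⊕ Fin m → F) ≃ₗ[F] _)
    refine ⟨Lg.trans es.symm, 1, one_ne_zero, fun x y => ?_⟩
    have hLg : ∀ z, Lg z = (g : Matrix (Fin m ⊕ Fin m) (Fin m ⊕ Fin m) F) *ᵥ z := fun z => rfl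
    have hB' : ∀ x y, B (es.symm (Lg x)) (es.symm (Lg y)) = sympBilin m F x y := fun x y => by
      rw [← hes, LinearEquiv.apply_symm_apply, LinearEquiv.apply_symm_apply, hLg, hLg, Sympl.sp_form]
    have hev : es.symm (Lg v) = e := by rw [hLg, hg, LinearEquiv.symm_apply_apply]
    have hφ : ∀ z, β (es.symm (Lg z)) e = sympBilin m F z v := fun z => by
      rw [← hB' z v, hev, hBa, h0, mul_zero, add_zero]
    beta_reduce
    rw [one_mul, tvForm_apply, hβa, LinearEquiv.trans_apply, LinearEquiv.trans_apply, ← hB', hBa, hφ, hφ, add_assoc,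
      CharTwo.add_self_eq_zero, add_zero]
  · left
    replace h1 : β e e = 1 := sub_eq_zero.1 h1
    let W : Submodule F (Fin n → F) := LinearMap.ker (β.flip e)
    let βW : LinearMap.BilinForm F W := β.comp W.subtype W.subtype
    have hW : ∀ x : W, β x e = 0 := fun x => x.2
    have hWalt : βW.IsAlt := fun x => by
      show β (x : Fin n → F) x = 0
      rw [← he, hW, zero_mul]
    have hWnd : βW.Nondegenerate := by
      have hl : ∀ x : W, (∀ y : W, β x y = 0) → x = 0 := fun x h => by
        refine Subtype.ext (hnd.1 _ fun y => ?_)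
        have hy : y - β y e • e ∈ W := by
          show β (y - β y e • e) e = 0
          rw [map_sub, map_smul, LinearMap.sub_apply, LinearMap.smul_apply, h1, smul_eq_mul, mul_one, sub_self]
        have := h ⟨_, hy⟩
        rwa [map_sub, map_smul, hW, smul_zero, sub_zero] at this
      exact ⟨hl, fun x h => hl x fun y => (hs _ _).trans (h y)⟩
    obtain ⟨m, -, hd, -⟩ := exists_symplectic_basis_nondegenerate hWalt hWnd
    obtain ⟨es, hes⟩ := exists_isometry_sympBilin hWalt hWnd hd
    have hdim : Module.finrank F W + 1 = n := by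
      have := LinearMap.finrank_range_add_finrank_ker (β.flip e)
      rw [LinearMap.range_eq_top.2 (fun c => ⟨c • e, by
        show β (c • e) e = c
        rw [map_smul, LinearMap.smul_apply, h1, smul_eq_mul, mul_one]⟩), finrank_top, Module.finrank_self,
        Module.finrank_fin_fun] at this
      show Module.finrank F (LinearMap.ker (β.flip e)) + 1 = n
      omega
    replace hes : ∀ x y : W, sympBilin m F (es x) (es y) = β (x : Fin n → F) y := hes
    refine ⟨m, by omega, ?_⟩
    let L0 : (Unit ⊕ (Fin m ⊕ Fin m) → F) →ₗ[F] (Fin n → F) :=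
      (LinearMap.proj (Sum.inl ())).smulRight e +
        W.subtype.comp (es.symm.toLinearMap.comp (LinearMap.funLeft F F Sum.inr))
    have hL0 : ∀ x, L0 x = x (.inl ()) • e + (es.symm (fun i => x (.inr i)) : Fin n → F) := fun x => rfl
    have hφ : ∀ x, β (L0 x) e = x (.inl ()) := fun x => by
      rw [hL0, map_add, map_smul, LinearMap.add_apply, LinearMap.smul_apply, h1, hW, smul_eq_mul, mul_one, add_zero]
    have hinj : Function.Injective L0 := by
      rw [injective_iff_map_eq_zero]
      intro x hx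
      have h0 : x (.inl ()) = 0 := by rw [← hφ x, hx, map_zero, LinearMap.zero_apply]
      rw [hL0, h0, zero_smul, zero_add, ZeroMemClass.coe_eq_zero, LinearEquiv.map_eq_zero_iff] at hx
      funext i
      rcases i with i | i
      · exact h0
      · exact congrFun hx i
    refine ⟨LinearMap.linearEquivOfInjective L0 hinj (by simp; omega), 1, one_ne_zero, fun x y => ?_⟩
    beta_reduce
    rw [one_mul, oneForm_apply, hβa, LinearMap.linearEquivOfInjective_apply, LinearMap.linearEquivOfInjective_apply,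
      hL0 y, map_add, map_smul, hφ, smul_eq_mul, mul_comm (y _), hL0 x, map_add, map_smul, LinearMap.add_apply,
      LinearMap.smul_apply, hs e (es.symm _), hW, smul_zero, zero_add, ← hes, LinearEquiv.apply_symm_apply,
      LinearEquiv.apply_symm_apply]

theorem cent_odd_two (hn : 2 ≤ n) {m : ℕ} {A : GLn} (hA : HasFrame A (fun x y => oneForm m F x y)) :
    Nonempty (↥(Cfsg.inndiagPSL n F ⊓ Subgroup.centralizer {gam A}) ≃* Cfsg.PGO F (Cfsg.quadFormOdd m F)) := by
  obtain ⟨e1⟩ := cent_equiv hn hA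
  obtain ⟨e2⟩ := sim_char_two (f := fun x y => oneForm m F x y)
    (fun a u v => by simp only [map_smul, LinearMap.smul_apply, smul_eq_mul, ← mul_assoc])
    ⟨Pi.single (.inl ()) 1, Pi.single (.inl ()) 1, by
      rw [oneForm_apply, show (fun i => (Pi.single (.inl ()) 1 : Unit ⊕ (Fin m ⊕ Fin m) → F) (.inr i)) = 0 from
        funext fun i => by simp]
      simp⟩
  obtain ⟨e3⟩ := isom_one (F := F) (m := m)
  obtain ⟨e4⟩ := Refl.odd_char_two_equiv (F := F) m
  obtain ⟨e5⟩ := quad_char_two (Refl.oddForm m F) ⟨Pi.single (.inl ()) 1, by simp [Refl.oddForm_coe, Cfsg.quadFormOdd]⟩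
  rw [← Refl.oddForm_coe] at e4 ⊢
  exact ⟨((e1.trans e2.symm).trans e3.symm).trans (e4.symm.trans e5)⟩

theorem cent_tv (hn : 2 ≤ n) {m : ℕ} {A : GLn} {v : Fin m ⊕ Fin m → F} (hv : v ≠ 0)
    (hA : HasFrame A (fun x y => tvForm v x y)) :
    Nonempty (↥(Cfsg.inndiagPSL n F ⊓ Subgroup.centralizer {gam A}) ≃*
      ↥(Subgroup.centralizer ({Sympl.tv v 1} : Set ↥(Matrix.symplecticGroup (Fin m) F)))) := by
  obtain ⟨y, hy⟩ : ∃ y, sympBilin m F y v ≠ 0 := by
    by_contra h
    push Not at h
    exact hv ((sympBilin_nondegenerate m F).2 v h)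
  obtain ⟨e1⟩ := cent_equiv hn hA
  obtain ⟨e2⟩ := sim_char_two (f := fun x y => tvForm v x y)
    (fun a u w => by simp only [map_smul, LinearMap.smul_apply, smul_eq_mul, ← mul_assoc])
    ⟨y, y, by rw [tvForm_apply, sympBilin_isAlt m F y, zero_add]; exact mul_ne_zero hy hy⟩
  obtain ⟨e3⟩ := isom_tv (F := F) v
  exact ⟨((e1.trans e2.symm).trans e3.symm).trans (MulEquiv.subgroupCongr (Sympl.centralizer_tv hv one_ne_zero).symm)⟩

theorem cent_symp_two (hn : 2 ≤ n) {m : ℕ} {A : GLn} (hA : HasFrame A (Cfsg.sympForm m F)) :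
    Nonempty (↥(Cfsg.inndiagPSL n F ⊓ Subgroup.centralizer {gam A}) ≃* Matrix.symplecticGroup (Fin m) F) := by
  obtain ⟨e1⟩ := cent_equiv hn hA
  obtain ⟨e2⟩ := isom_symp (F := F) (m := m)
  exact ⟨e1.trans e2.symm⟩

end Cfsg.Lib.Known.AutPSLn.Invol
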