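import Cfsg.Agent.Known.AutPSLn.Invol.Odd
import Cfsg.Agent.Known.AutPSLn.Invol.CharTwo

/-!
Classes of involutory graph automorphisms of `PSL_n`.
-/

set_option autoImplicit false
set_option linter.unusedSectionVars false
set_option linter.style.haveILetI false

namespace Cfsg.Lib.Known.AutPSLn.Invol

open Matrix Cfsg.Lib.Classical

variable {F : Type*} [Field F] [Fintype F] {n : ℕ}

local notation "GLn" => GL (Fin n) F
local notation "Mn" => Matrix (Fin n) (Fin n) F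
local notation "Pn" => Matrix.ProjectiveSpecialLinearGroup (Fin n) F

theorem exists_invol (hn : 3 ≤ n) {γ : MulAut Pn} (hγ : Cfsg.IsGraphAutClassPSL γ) (hγ2 : orderOf γ = 2) :
    ∃ A : GLn, γ = gam A ∧ ((A : Mn)ᵀ = A ∨ (A : Mn)ᵀ = -(A : Mn)) := by
  obtain ⟨A, rfl⟩ := exists_gam hγ
  exact ⟨A, rfl, (orderOf_gam hn A).1 hγ2⟩

theorem alt_of_neg (h2 : (2 : F) ≠ 0) {A : GLn} (h : (A : Mn)ᵀ = -(A : Mn)) (x : Fin n → F) :
    formOf (A : Mn) x x = 0 := by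
  have e := formOf_transpose (A : Mn) x x
  rw [h, ← neg_one_smul F (A : Mn), formOf_smul] at e
  exact (mul_eq_zero.1 (show (2 : F) * formOf (A : Mn) x x = 0 by linear_combination -e)).resolve_left h2

theorem symm_of_two [CharP F 2] {A : GLn} (h : (A : Mn)ᵀ = A ∨ (A : Mn)ᵀ = -(A : Mn)) : (A : Mn)ᵀ = A := by
  rcases h with h | h
  · exact h
  · rw [h]; ext i j; exact CharTwo.neg_eq _

theorem odd_dim (hn : 3 ≤ n) {m : ℕ} (hnm : n = 2 * m + 1) (γ γ' : MulAut Pn) (hγ : Cfsg.IsGraphAutClassPSL γ)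
    (hγ2 : orderOf γ = 2) (hγ' : Cfsg.IsGraphAutClassPSL γ') (hγ'2 : orderOf γ' = 2) :
    Nonempty (↥(Cfsg.inndiagPSL n F ⊓ Subgroup.centralizer {γ}) ≃* Cfsg.PGO F (Cfsg.quadFormOdd m F)) ∧
      Cfsg.IsConjUnder (Cfsg.inndiagPSL n F) γ γ' := by
  obtain ⟨A, rfl, hA⟩ := exists_invol hn hγ hγ2
  obtain ⟨B, rfl, hB⟩ := exists_invol hn hγ' hγ'2
  have hnoalt : ∀ C : GLn, ¬ ∀ x, formOf (C : Mn) x x = 0 := fun C h => by
    obtain ⟨k, hk, -⟩ := frame_symp C h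
    omega
  by_cases h2 : (2 : F) = 0
  · haveI : CharP F 2 := CharTwo.of_one_ne_zero_of_two_eq_zero one_ne_zero h2
    have hfr : ∀ C : GLn, ((C : Mn)ᵀ = C ∨ (C : Mn)ᵀ = -(C : Mn)) →
        HasFrame C (fun x y => oneForm m F x y) := fun C hC => by
      rcases frame_nonalt (symm_of_two hC) (not_forall.1 (hnoalt C)) with ⟨k, hk, hf⟩ | ⟨k, hk, -⟩
      · obtain rfl : k = m := by omega
        exact hf
      · omega
    exact ⟨cent_odd_two (by omega) (hfr A hA), (hfr A hA).conj (by omega) (hfr B hB)⟩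
  · have hfr : ∀ C : GLn, ((C : Mn)ᵀ = C ∨ (C : Mn)ᵀ = -(C : Mn)) →
        HasFrame C (QuadraticMap.polar (Cfsg.quadFormOdd m F)) := fun C hC => by
      rcases hC with hC | hC
      · exact frame_odd h2 hC hnm
      · exact absurd (alt_of_neg h2 hC) (hnoalt C)
    exact ⟨cent_odd (by omega) h2 (hfr A hA), (hfr A hA).conj (by omega) (hfr B hB)⟩

theorem even_odd (hodd : Odd (Fintype.card F)) {m : ℕ} (hm : 2 ≤ m) (hnm : n = 2 * m) :
    ∃ (γ₁ γ₂ γ₃ : MulAut Pn) (a b : F), (∀ z₁ z₂ : F, z₁ ^ 2 + a * z₁ * z₂ + b * z₂ ^ 2 = 0 → z₁ = 0 ∧ z₂ = 0) ∧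
      Cfsg.IsGraphAutClassPSL γ₁ ∧ orderOf γ₁ = 2 ∧ Cfsg.IsGraphAutClassPSL γ₂ ∧ orderOf γ₂ = 2 ∧
      Cfsg.IsGraphAutClassPSL γ₃ ∧ orderOf γ₃ = 2 ∧ ¬ Cfsg.IsConjUnder (Cfsg.inndiagPSL n F) γ₁ γ₂ ∧
      ¬ Cfsg.IsConjUnder (Cfsg.inndiagPSL n F) γ₁ γ₃ ∧ ¬ Cfsg.IsConjUnder (Cfsg.inndiagPSL n F) γ₂ γ₃ ∧
      (∀ γ : MulAut Pn, Cfsg.IsGraphAutClassPSL γ → orderOf γ = 2 →
        Cfsg.IsConjUnder (Cfsg.inndiagPSL n F) γ₁ γ ∨ Cfsg.IsConjUnder (Cfsg.inndiagPSL n F) γ₂ γ ∨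
          Cfsg.IsConjUnder (Cfsg.inndiagPSL n F) γ₃ γ) ∧
      Nonempty (↥(Cfsg.inndiagPSL n F ⊓ Subgroup.centralizer {γ₁}) ≃* Cfsg.PGSp m F) ∧
      Nonempty (↥(Cfsg.inndiagPSL n F ⊓ Subgroup.centralizer {γ₂}) ≃* Cfsg.PGO F (Cfsg.quadFormPlus m F)) ∧
      Nonempty (↥(Cfsg.inndiagPSL n F ⊓ Subgroup.centralizer {γ₃}) ≃* Cfsg.PGO F (Cfsg.quadFormMinus (m - 1) F a b)) := by
  have h2 := Refl.two_ne_zero_of_odd hodd
  have hn : 3 ≤ n := by omega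
  obtain ⟨ζ, hζ⟩ := exists_root_free F
  obtain ⟨A₁, hA₁, hf₁⟩ := exists_symp (F := F) hnm
  obtain ⟨A₂, hA₂, hf₂⟩ := exists_plus (F := F) hnm
  obtain ⟨A₃, hA₃, hf₃⟩ := exists_minus (F := F) (by omega) hnm hζ
  have hdiff : ∀ B : GLn, (B : Mn)ᵀ = B → ¬ Cfsg.IsConjUnder (Cfsg.inndiagPSL n F) (gam A₁) (gam B) := fun B hB h => by
    refine ne_neg_of_two h2 (by omega) hB ?_
    have e := transpose_of_conj (by omega) (ε := -1) (A := A₁) (by rw [hA₁, neg_one_smul]) h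
    rwa [neg_one_smul] at e
  refine ⟨gam A₁, gam A₂, gam A₃, 1, ζ, OrthCount.aniso_of_root_free hζ, isGraph_gam hn _,
    (orderOf_gam hn _).2 (.inr hA₁), isGraph_gam hn _, (orderOf_gam hn _).2 (.inl hA₂), isGraph_gam hn _,
    (orderOf_gam hn _).2 (.inl hA₃), hdiff A₂ hA₂, hdiff A₃ hA₃, fun h => ?_, fun γ hγ hγ2 => ?_,
    cent_equiv (by omega) hf₁, cent_plus (by omega) h2 hf₂, cent_minus (by omega) h2 hf₃⟩
  · obtain ⟨k, rfl⟩ : ∃ k, m = k + 1 := ⟨m - 1, by omega⟩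
    exact plus_ne_minus h2 hζ (hf₂.of_conj (by omega) h) hf₃
  · obtain ⟨B, rfl, hB | hB⟩ := exists_invol hn hγ hγ2
    · rcases frame_even h2 hB hnm with h | h
      · exact .inr (.inl (hf₂.conj (by omega) h))
      · exact .inr (.inr (hf₃.conj (by omega) (h ζ hζ)))
    · obtain ⟨k, hk, h⟩ := frame_symp B (alt_of_neg h2 hB)
      obtain rfl : k = m := by omega
      exact .inl (hf₁.conj (by omega) h)

theorem even_two [CharP F 2] {m : ℕ} (hm : 2 ≤ m) (hnm : n = 2 * m) :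
    ∃ (γ₁ γ₃ : MulAut Pn) (t : ↥(Matrix.symplecticGroup (Fin m) F)),
      Cfsg.IsTransvection (t : Matrix (Fin m ⊕ Fin m) (Fin m ⊕ Fin m) F) ∧ Cfsg.IsGraphAutClassPSL γ₁ ∧
      orderOf γ₁ = 2 ∧ Cfsg.IsGraphAutClassPSL γ₃ ∧ orderOf γ₃ = 2 ∧
      ¬ Cfsg.IsConjUnder (Cfsg.inndiagPSL n F) γ₁ γ₃ ∧
      (∀ γ : MulAut Pn, Cfsg.IsGraphAutClassPSL γ → orderOf γ = 2 →
        Cfsg.IsConjUnder (Cfsg.inndiagPSL n F) γ₁ γ ∨ Cfsg.IsConjUnder (Cfsg.inndiagPSL n F) γ₃ γ) ∧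
      Nonempty (↥(Cfsg.inndiagPSL n F ⊓ Subgroup.centralizer {γ₁}) ≃* ↥(Matrix.symplecticGroup (Fin m) F)) ∧
      Nonempty (↥(Cfsg.inndiagPSL n F ⊓ Subgroup.centralizer {γ₃}) ≃*
        ↥(Subgroup.centralizer ({t} : Set ↥(Matrix.symplecticGroup (Fin m) F)))) := by
  classical
  have hn : 3 ≤ n := by omega
  set v : Fin m ⊕ Fin m → F := Pi.single (Sum.inl ⟨0, by omega⟩) 1 with hvdef
  have hv : v ≠ 0 := fun h => by simpa [hvdef] using congrFun h (Sum.inl ⟨0, by omega⟩)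
  obtain ⟨A₁, hA₁, hf₁⟩ := exists_symp (F := F) hnm
  obtain ⟨A₃, hA₃, hf₃⟩ := exists_frame (n := n) (by simp; omega) (tvForm v) tvForm_nondeg (ε := (1 : F))
    (fun x y => by rw [one_mul, tvForm_apply, tvForm_apply, symp_comm x y, mul_comm])
  rw [one_smul] at hA₃
  obtain ⟨y, hy⟩ : ∃ y, sympBilin m F y v ≠ 0 := by
    by_contra h
    push Not at h
    exact hv ((sympBilin_nondegenerate m F).2 v h)
  refine ⟨gam A₁, gam A₃, Sympl.tv v 1, isTransvection_tv hv, isGraph_gam hn _, (orderOf_gam hn _).2 (.inr hA₁),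
    isGraph_gam hn _, (orderOf_gam hn _).2 (.inl hA₃), fun h => ?_, fun γ hγ hγ2 => ?_, cent_symp_two (by omega) hf₁,
    cent_tv (by omega) hv hf₃⟩
  · obtain ⟨M, k, hk, hM⟩ := HasFrame.compare (hf₁.of_conj (by omega) h) hf₃
    have e := hM (M.symm y) (M.symm y)
    rw [LinearEquiv.apply_symm_apply, tvForm_apply, sympBilin_isAlt m F y, zero_add, ← sympBilin_eq_sympForm,
      sympBilin_isAlt m F (M.symm y), mul_zero] at e
    exact mul_ne_zero hy hy e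
  · obtain ⟨B, rfl, hB⟩ := exists_invol hn hγ hγ2
    by_cases ha : ∀ x, formOf (B : Mn) x x = 0
    · obtain ⟨k, hk, h⟩ := frame_symp B ha
      obtain rfl : k = m := by omega
      exact .inl (hf₁.conj (by omega) h)
    · rcases frame_nonalt (symm_of_two hB) (not_forall.1 ha) with ⟨k, hk, -⟩ | ⟨k, hk, h⟩
      · omega
      · obtain rfl : k = m := by omega
        exact .inr (hf₃.conj (by omega) (h v hv))

theorem splitting {p f : ℕ} [Fact p.Prime] (hF : Fintype.card F = p ^ f) (hf : 1 ≤ f) (hn : 3 ≤ n) (γ : MulAut Pn)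
    (hγ : Cfsg.IsGraphAutClassPSL γ) (hγ2 : orderOf γ = 2) :
    ((Even n ∧ Odd p ∧ Nonempty (↥(Cfsg.inndiagPSL n F ⊓ Subgroup.centralizer {γ}) ≃* Cfsg.PGSp (n / 2) F)) →
      Cfsg.splitClassCount (Cfsg.inndiagPSL n F) (Cfsg.Inn Pn) γ = Nat.gcd (n / 2) (p ^ f - 1)) ∧
    ((Even n ∧ Odd p ∧ ¬ Nonempty (↥(Cfsg.inndiagPSL n F ⊓ Subgroup.centralizer {γ}) ≃* Cfsg.PGSp (n / 2) F)) →
      Cfsg.splitClassCount (Cfsg.inndiagPSL n F) (Cfsg.Inn Pn) γ = Nat.gcd n (p ^ f - 1) / 2) ∧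
    (¬ (Even n ∧ Odd p) →
      Cfsg.splitClassCount (Cfsg.inndiagPSL n F) (Cfsg.Inn Pn) γ = Nat.gcd n (p ^ f - 1)) := by
  obtain ⟨A, rfl, hA⟩ := exists_invol hn hγ hγ2
  rw [split_gam (by omega), ← hF]
  refine ⟨?_, ?_, ?_⟩
  · rintro ⟨he, hp, hiso⟩
    obtain ⟨m, hnm⟩ := even_iff_exists_two_mul.1 he
    have hodd : Odd (Fintype.card F) := hF ▸ hp.pow
    rw [show n / 2 = m by omega] at hiso ⊢
    rcases hA with hA | hA
    · exact (no_iso hodd hn hnm hA hiso).elim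
    · obtain ⟨k, hk, h⟩ := frame_symp A (alt_of_neg (Refl.two_ne_zero_of_odd hodd) hA)
      obtain rfl : k = m := by omega
      rw [detSim_symp h, index_pow]
  · rintro ⟨he, hp, hiso⟩
    obtain ⟨m, hnm⟩ := even_iff_exists_two_mul.1 he
    have hodd : Odd (Fintype.card F) := hF ▸ hp.pow
    rw [show n / 2 = m by omega] at hiso
    rcases hA with hA | hA
    · rw [detSim_symm (Refl.two_ne_zero_of_odd hodd) hA (by omega) hnm, index_sq_root hodd, ← hnm]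
    · obtain ⟨k, hk, h⟩ := frame_symp A (alt_of_neg (Refl.two_ne_zero_of_odd hodd) hA)
      obtain rfl : k = m := by omega
      exact absurd (cent_equiv (by omega) h) hiso
  · intro h
    rw [detSim_eq_of_odd A ?_, index_pow]
    by_contra hc
    push Not at hc
    refine h ⟨Nat.not_odd_iff_even.1 hc.1, ?_⟩
    refine ((Fact.out : p.Prime).eq_two_or_odd').resolve_left fun hp => hc.2 ?_
    subst hp
    have h0 : ((Fintype.card F : ℕ) : F) = 0 := FiniteField.cast_card_eq_zero F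
    rw [hF, Nat.cast_pow] at h0
    exact_mod_cast eq_zero_of_pow_eq_zero h0

end Cfsg.Lib.Known.AutPSLn.Invol
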