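import Cfsg.Agent.Known.AutPSLn.Invol.Split
import Cfsg.Agent.Known.FormEquiv
import Cfsg.Agent.Known.OrthGlue
import Cfsg.Agent.Known.OrthCount
import Cfsg.Agent.Classical.Orth.Orders
import Cfsg.Agent.Classical.Symp.Standard

/-!
The alternating class of involutory graph automorphisms, and the even-dimensional models.
-/

set_option autoImplicit false
set_option linter.unusedSectionVars false
set_option linter.style.haveILetI false
set_option linter.unusedSimpArgs false

namespace Cfsg.Lib.Known.AutPSLn.Invol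

open Matrix Cfsg.Lib.Classical

variable {F : Type*} [Field F] [Fintype F] {n : ℕ}

local notation "GLn" => GL (Fin n) F
local notation "Mn" => Matrix (Fin n) (Fin n) F

theorem det_ne_zero (A : GLn) : (A : Mn).det ≠ 0 := ((Matrix.isUnit_iff_isUnit_det _).1 A.isUnit).ne_zero

theorem toBilin_nondeg (A : GLn) : (Matrix.toBilin' (A : Mn)).Nondegenerate :=
  LinearMap.BilinForm.nondegenerate_toBilin'_of_det_ne_zero' _ (det_ne_zero A)

/-- Alternating matrices. -/
theorem frame_symp (A : GLn) (hA : ∀ x, formOf (A : Mn) x x = 0) :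
    ∃ m, n = 2 * m ∧ HasFrame A (Cfsg.sympForm m F) := by
  have halt : (Matrix.toBilin' (A : Mn)).IsAlt := fun x => by rw [Matrix.toBilin'_apply']; exact hA x
  obtain ⟨m, -, hd, -⟩ := exists_symplectic_basis_nondegenerate halt (toBilin_nondeg A)
  obtain ⟨e, he⟩ := exists_isometry_sympBilin halt (toBilin_nondeg A) hd
  refine ⟨m, by rw [← hd, Module.finrank_fin_fun], e.symm, 1, one_ne_zero, fun x y => ?_⟩
  rw [one_mul, formOf, ← Matrix.toBilin'_apply', ← he, LinearEquiv.apply_symm_apply, LinearEquiv.apply_symm_apply,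
    sympBilin_eq_sympForm]

theorem exists_symp {m : ℕ} (hnm : n = 2 * m) :
    ∃ A : GLn, (A : Mn)ᵀ = -(A : Mn) ∧ HasFrame A (Cfsg.sympForm m F) := by
  have hι : Fintype.card (Fin m ⊕ Fin m) = n := by simp; omega
  obtain ⟨A, hA, hfr⟩ := exists_frame (n := n) hι (sympBilin m F) (sympBilin_nondegenerate m F) (ε := -1)
    (fun x y => by rw [neg_one_mul, (sympBilin_isAlt m F).neg_eq])
  refine ⟨A, by rw [hA, neg_one_smul], ?_⟩
  obtain ⟨L, k, hk, h⟩ := hfr
  exact ⟨L, k, hk, fun x y => (h x y).trans (congrArg (k * ·) (sympBilin_eq_sympForm x y))⟩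

/-- Congruence keeps the symmetry. -/
theorem transpose_of_conj (hn : 2 ≤ n) {A B : GLn} {ε : F} (hA : (A : Mn)ᵀ = ε • (A : Mn))
    (h : Cfsg.IsConjUnder (Cfsg.inndiagPSL n F) (gam A) (gam B)) : (B : Mn)ᵀ = ε • (B : Mn) := by
  obtain ⟨g, u, hu⟩ := (isConjUnder_gam_iff hn A B).1 h
  refine smul_right_injective _ u.ne_zero ?_
  show (u : F) • (B : Mn)ᵀ = (u : F) • ε • (B : Mn)
  rw [← transpose_smul, smul_comm, ← hu, transpose_mul, transpose_mul, transpose_transpose, hA]
  simp [Matrix.mul_assoc]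

theorem ne_neg_of_two (h2 : (2 : F) ≠ 0) {A : GLn} (hn : 0 < n) (h : (A : Mn)ᵀ = A) (h' : (A : Mn)ᵀ = -(A : Mn)) :
    False := by
  refine det_ne_zero A ?_
  have h0 : (A : Mn) = 0 := by
    ext i j
    have e : (A : Mn) i j = -(A : Mn) i j := congrFun (congrFun (h.symm.trans h') i) j
    exact (mul_eq_zero.1 (show (2 : F) * (A : Mn) i j = 0 by linear_combination e)).resolve_left h2
  haveI : Nonempty (Fin n) := ⟨⟨0, hn⟩⟩
  rw [h0, det_zero]

section Sp

variable {m : ℕ}

local notation "Big" => Matrix (Fin m ⊕ Fin m) (Fin m ⊕ Fin m) F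
local notation "GLB" => GL (Fin m ⊕ Fin m) F
local notation "Spm" => Matrix.symplecticGroup (Fin m) F

/-- The symplectic group inside `GL`. -/
noncomputable def spToGL : Spm →* GLB := (Matrix.symplecticGroup (Fin m) F).subtype.toHomUnits

theorem spToGL_injective : Function.Injective (spToGL : Spm →* GLB) := fun _ _ h =>
  Subtype.ext (congrArg Units.val h)

theorem mem_range_spToGL (g : GLB) :
    g ∈ (spToGL : Spm →* GLB).range ↔ (g : Big) ∈ Matrix.symplecticGroup (Fin m) F :=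
  ⟨by rintro ⟨A, rfl⟩; exact A.2, fun h => ⟨⟨_, h⟩, Units.ext rfl⟩⟩

theorem spToGL_mem_GSp (A : Spm) : spToGL A ∈ Cfsg.GSp m F :=
  ⟨1, fun u v => by
    rw [Units.val_one, one_mul, ← sympBilin_eq_sympForm, ← sympBilin_eq_sympForm]
    exact (mem_symplectic_iff_form A.1).1 A.2 u v⟩

theorem gsp_dec {g : GLB} {c : Fˣ}
    (hc : ∀ u v, Cfsg.sympForm m F ((g : Big) *ᵥ u) ((g : Big) *ᵥ v) = c * Cfsg.sympForm m F u v) :
    ∃ (hd : ((Matrix.fromBlocks ((c : F) • (1 : Matrix (Fin m) (Fin m) F)) 0 0 1 : Big)).det ≠ 0) (A : Spm),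
      g = GeneralLinearGroup.mkOfDetNeZero _ hd * spToGL A := by
  have hd : ((Matrix.fromBlocks ((c : F) • (1 : Matrix (Fin m) (Fin m) F)) 0 0 1 : Big)).det ≠ 0 := by
    simp [det_fromBlocks_zero₂₁, det_smul, c.ne_zero]
  refine ⟨hd, ?_⟩
  set D : GLB := GeneralLinearGroup.mkOfDetNeZero _ hd with hDdef
  have hD : ∀ u v, Cfsg.sympForm m F ((D : Big) *ᵥ u) ((D : Big) *ᵥ v) = c * Cfsg.sympForm m F u v := fun u v => by
    simp only [← sympBilin_eq_sympForm, sympBilin_eq_sum, hDdef, GeneralLinearGroup.val_mkOfDetNeZero,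
      fromBlocks_mulVec, Finset.mul_sum]
    refine Finset.sum_congr rfl fun i _ => ?_
    simp [smul_mulVec]
    ring
  have hmem : ((D⁻¹ * g : GLB) : Big) ∈ Matrix.symplecticGroup (Fin m) F := by
    rw [mem_symplectic_iff_form]
    intro u v
    refine mul_left_cancel₀ c.ne_zero ?_
    rw [sympBilin_eq_sympForm, sympBilin_eq_sympForm, ← hD, Units.val_mul, mulVec_mulVec, mulVec_mulVec,
      ← mul_assoc, D.mul_inv, one_mul, hc]
  exact ⟨⟨_, hmem⟩, by
    rw [show spToGL ⟨_, hmem⟩ = D⁻¹ * g from Units.ext rfl, mul_inv_cancel_left]⟩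

theorem det_GSp : (Cfsg.GSp m F).map GeneralLinearGroup.det = (powMonoidHom m : Fˣ →* Fˣ).range := by
  have hdet : ∀ (c : Fˣ) (hc), GeneralLinearGroup.det (GeneralLinearGroup.mkOfDetNeZero
      (Matrix.fromBlocks ((c : F) • (1 : Matrix (Fin m) (Fin m) F)) 0 0 1 : Big) hc) = c ^ m := fun c hc =>
    Units.ext (by
      show (Matrix.fromBlocks ((c : F) • (1 : Matrix (Fin m) (Fin m) F)) 0 0 1 : Big).det = _
      simp [det_fromBlocks_zero₂₁, det_smul])
  ext d
  constructor
  · rintro ⟨g, hg, rfl⟩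
    obtain ⟨c, hg⟩ := hg
    obtain ⟨hc, A, rfl⟩ := gsp_dec hg
    refine ⟨c, ?_⟩
    rw [map_mul, hdet, show GeneralLinearGroup.det (spToGL A) = 1 from Units.ext (SymplecticGroup.det_eq_one A.2), mul_one]
    rfl
  · rintro ⟨c, rfl⟩
    have hc : ((Matrix.fromBlocks ((c : F) • (1 : Matrix (Fin m) (Fin m) F)) 0 0 1 : Big)).det ≠ 0 := by
      simp [det_fromBlocks_zero₂₁, det_smul, c.ne_zero]
    refine ⟨GeneralLinearGroup.mkOfDetNeZero _ hc, ⟨c, fun u v => ?_⟩, hdet c hc⟩
    simp only [← sympBilin_eq_sympForm, sympBilin_eq_sum, GeneralLinearGroup.val_mkOfDetNeZero, fromBlocks_mulVec,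
      Finset.mul_sum]
    refine Finset.sum_congr rfl fun i _ => ?_
    simp [smul_mulVec]
    ring

theorem detSim_symp {A : GLn} (hA : HasFrame A (Cfsg.sympForm m F)) :
    detSim A = (powMonoidHom m : Fˣ →* Fˣ).range := by
  obtain ⟨L, k, hk, h⟩ := hA
  rw [← det_GSp]
  ext d
  constructor
  · rintro ⟨g, hg, rfl⟩
    refine ⟨(trL L).symm g, (similarity_iff L hk h _).2 (by rw [MulEquiv.apply_symm_apply]; exact hg), ?_⟩
    rw [← det_trL L, MulEquiv.apply_symm_apply]
  · rintro ⟨g, hg, rfl⟩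
    exact ⟨trL L g, (similarity_iff L hk h _).1 hg, det_trL L g⟩

theorem card_sp_dvd : Nat.card Spm ∣ 2 * Nat.card (Cfsg.PGSp m F) := by
  let f : Spm →* Cfsg.PGSp m F := (QuotientGroup.mk' _).comp (spToGL.codRestrict (Cfsg.GSp m F) spToGL_mem_GSp)
  have hker : Nat.card f.ker ∣ 2 := by
    rcases Nat.eq_zero_or_pos m with rfl | hm
    · haveI : Subsingleton f.ker := ⟨fun a b => Subtype.ext (Subtype.ext (Subsingleton.elim _ _))⟩
      exact (Nat.card_unique (α := f.ker)).symm ▸ one_dvd 2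
    classical
    have hsub : ∀ a : f.ker, (a.1 : Big) = 1 ∨ (a.1 : Big) = -1 := fun a => by
      obtain ⟨c, hc⟩ := (Cfsg.Geo.mem_scalars_iff _).1 ((QuotientGroup.eq_one_iff (spToGL.codRestrict (Cfsg.GSp m F) spToGL_mem_GSp a.1)).1 (MonoidHom.mem_ker.1 a.2))
      have hc' : (a.1 : Big) = (c : F) • 1 := hc
      have h := (mem_symplectic_iff_form _).1 a.1.2 (Pi.single (Sum.inr ⟨0, hm⟩) 1) (Pi.single (Sum.inl ⟨0, hm⟩) 1)
      rw [hc', smul_mulVec, one_mulVec, smul_mulVec, one_mulVec, map_smul, map_smul, LinearMap.smul_apply,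
        smul_eq_mul, smul_eq_mul] at h
      simp [sympBilin_eq_sum, Pi.single_apply] at h
      rcases mul_self_eq_one_iff.1 h with h1 | h1
      · exact .inl (by rw [hc', h1, one_smul])
      · exact .inr (by rw [hc', h1, neg_smul, one_smul])
    have hinj : Function.Injective (fun a : f.ker => decide ((a.1 : Big) = 1)) := fun a b e => by
      refine Subtype.ext (Subtype.ext ?_)
      have e' : ((a.1 : Big) = 1) ↔ ((b.1 : Big) = 1) := decide_eq_decide.1 e
      rcases hsub a with ha | ha <;> rcases hsub b with hb | hb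
      · rw [ha, hb]
      · rw [ha, e'.1 ha]
      · rw [hb, e'.2 hb]
      · rw [ha, hb]
    have hle := Nat.card_le_card_of_injective _ hinj
    have hpos : 0 < Nat.card f.ker := Nat.card_pos
    rw [Nat.card_eq_fintype_card (α := Bool), Fintype.card_bool] at hle
    rcases (show Nat.card f.ker = 1 ∨ Nat.card f.ker = 2 by omega) with e | e <;> rw [e] <;> norm_num
  rw [← f.ker.card_mul_index, Subgroup.index_ker]
  exact mul_dvd_mul hker (Subgroup.card_subgroup_dvd_card _)

end Sp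

section Quad

variable {ι : Type} [Fintype ι] [DecidableEq ι]

theorem card_pgo_dvd [Nonempty ι] (Q : QuadraticForm F (ι → F)) (hQ : ∃ v, Q v ≠ 0) :
    Nat.card (Cfsg.PGO F ⇑Q) ∣ Nat.card (Cfsg.isometryGroup F ⇑Q) := by
  classical
  obtain ⟨w, hw⟩ := hQ
  set H := Cfsg.Geo.quadSimilarityGroup (F := F) (⇑Q)
  have huniq : ∀ (g : GL ι F) (c c' : Fˣ), (∀ v, Q ((g : Matrix ι ι F) *ᵥ v) = c * Q v) →
      (∀ v, Q ((g : Matrix ι ι F) *ᵥ v) = c' * Q v) → c = c' := fun g c c' h h' =>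
    Units.ext (mul_right_cancel₀ hw ((h w).symm.trans (h' w)))
  let μ : H →* Fˣ := MonoidHom.mk' (fun g => g.2.choose) fun a b => by
    refine huniq ((a * b : H) : GL ι F) _ _ (a * b).2.choose_spec fun v => ?_
    rw [Subgroup.coe_mul, Units.val_mul, ← mulVec_mulVec, a.2.choose_spec, b.2.choose_spec, Units.val_mul, mul_assoc]
  have hker : Nat.card μ.ker = Nat.card (Cfsg.isometryGroup F ⇑Q) := by
    refine Nat.card_congr (Equiv.ofBijective
      (fun g => ⟨g.1.1, (Refl.mem_iff Q).2 fun v => by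
        have h := g.1.2.choose_spec v
        have e : (g.1.2.choose : F) = 1 := congrArg Units.val (MonoidHom.mem_ker.1 g.2)
        rw [e, one_mul] at h
        exact h⟩) ⟨fun a b e => Subtype.ext (Subtype.ext (congrArg (fun z : Cfsg.isometryGroup F ⇑Q => (z : GL ι F)) e)), ?_⟩)
    rintro ⟨g, hg⟩
    have hgH : g ∈ H := ⟨1, fun v => by rw [Units.val_one, one_mul]; exact (Refl.mem_iff Q).1 hg v⟩
    exact ⟨⟨⟨g, hgH⟩, MonoidHom.mem_ker.2 (huniq g _ _ hgH.choose_spec fun v => by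
      rw [Units.val_one, one_mul]; exact (Refl.mem_iff Q).1 hg v)⟩, rfl⟩
  have hsc : Nat.card ((Cfsg.Geo.scalars ι F).subgroupOf H) = Nat.card Fˣ := by
    have hle : Cfsg.Geo.scalars ι F ≤ H := by
      rintro _ ⟨u, rfl⟩
      refine ⟨u * u, fun v => ?_⟩
      show Q (Matrix.scalar ι (u : F) *ᵥ v) = _
      rw [scalar_apply, ← smul_one_eq_diagonal, smul_mulVec, one_mulVec, QuadraticMap.map_smul, smul_eq_mul,
        Units.val_mul]
    rw [Nat.card_congr (Subgroup.subgroupOfEquivOfLe hle).toEquiv]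
    refine (Nat.card_congr (MonoidHom.ofInjective (f := Units.map (Matrix.scalar ι : F →+* Matrix ι ι F).toMonoidHom)
      fun a b e => Units.ext (Matrix.scalar_inj.1 (congrArg Units.val e))).toEquiv).symm
  have h1 : Nat.card H ∣ Nat.card (Cfsg.isometryGroup F ⇑Q) * Nat.card Fˣ := by
    rw [← μ.ker.card_mul_index, Subgroup.index_ker, hker]
    exact mul_dvd_mul_left _ (Subgroup.card_subgroup_dvd_card _)
  rw [← ((Cfsg.Geo.scalars ι F).subgroupOf H).card_mul_index, hsc, mul_comm _ (Nat.card Fˣ)] at h1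
  exact Nat.dvd_of_mul_dvd_mul_left Nat.card_pos h1

end Quad

end Cfsg.Lib.Known.AutPSLn.Invol
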