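import Cfsg.Agent.Known.FieldCosetMain

/-!
Involutory graph automorphisms of `PSL_n` as bilinear forms up to congruence and scalars.
-/

set_option autoImplicit false
set_option linter.unusedSectionVars false

namespace Cfsg.Lib.Known.AutPSLn.Invol

open Matrix

section Forms

variable {F : Type*} [Field F] {ι κ : Type} [Fintype ι] [DecidableEq ι] [Fintype κ] [DecidableEq κ]

/-- The bilinear form of a matrix. -/
abbrev formOf (A : Matrix ι ι F) (x y : ι → F) : F := x ⬝ᵥ (A *ᵥ y)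

theorem formOf_mulVec (A M : Matrix ι ι F) (x y : ι → F) :
    formOf A (M *ᵥ x) (M *ᵥ y) = formOf (Mᵀ * A * M) x y := by
  rw [formOf, formOf, ← mulVec_mulVec, ← mulVec_mulVec, dotProduct_mulVec x Mᵀ, vecMul_transpose]

theorem formOf_smul (A : Matrix ι ι F) (c : F) (x y : ι → F) : formOf (c • A) x y = c * formOf A x y := by
  rw [formOf, formOf, smul_mulVec, dotProduct_smul, smul_eq_mul]

theorem formOf_transpose (A : Matrix ι ι F) (x y : ι → F) : formOf Aᵀ x y = formOf A y x := by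
  rw [formOf, formOf, mulVec_transpose, dotProduct_comm, dotProduct_mulVec]

theorem formOf_ext {A B : Matrix ι ι F} (h : ∀ x y, formOf A x y = formOf B x y) : A = B := by
  ext i j
  simpa using h (Pi.single i 1) (Pi.single j 1)

/-- Transport of matrices along a linear equivalence. -/
noncomputable def trAlg (L : (ι → F) ≃ₗ[F] (κ → F)) : Matrix ι ι F ≃ₐ[F] Matrix κ κ F :=
  Matrix.toLinAlgEquiv'.trans ((LinearEquiv.conjAlgEquiv F L).trans Matrix.toLinAlgEquiv'.symm)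

/-- Transport of invertible matrices. -/
noncomputable def trL (L : (ι → F) ≃ₗ[F] (κ → F)) : GL ι F ≃* GL κ F := Units.mapEquiv (trAlg L).toMulEquiv

theorem trL_mulVec (L : (ι → F) ≃ₗ[F] (κ → F)) (g : GL ι F) (x : κ → F) :
    ((trL L g : GL κ F) : Matrix κ κ F) *ᵥ x = L ((g : Matrix ι ι F) *ᵥ L.symm x) := by
  show (trAlg L (g : Matrix ι ι F)) *ᵥ x = _
  simp [trAlg, ← Matrix.toLinAlgEquiv'_apply]

theorem trL_mulVec' (L : (ι → F) ≃ₗ[F] (κ → F)) (g : GL ι F) (x : ι → F) :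
    ((trL L g : GL κ F) : Matrix κ κ F) *ᵥ (L x) = L ((g : Matrix ι ι F) *ᵥ x) := by
  rw [trL_mulVec, LinearEquiv.symm_apply_apply]

theorem trL_mem_scalars (L : (ι → F) ≃ₗ[F] (κ → F)) (g : GL ι F) :
    trL L g ∈ Cfsg.Geo.scalars κ F ↔ g ∈ Cfsg.Geo.scalars ι F := by
  rw [Cfsg.Geo.mem_scalars_iff, Cfsg.Geo.mem_scalars_iff]
  refine exists_congr fun c => ?_
  show trAlg L (g : Matrix ι ι F) = _ ↔ _
  rw [← (trAlg L).injective.eq_iff (b := (c : F) • 1), map_smul, map_one]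

theorem similarity_iff (L : (ι → F) ≃ₗ[F] (κ → F)) {f : (ι → F) → (ι → F) → F} {f' : (κ → F) → (κ → F) → F} {k : F}
    (hk : k ≠ 0) (h : ∀ x y, f' (L x) (L y) = k * f x y) (g : GL ι F) :
    g ∈ Cfsg.Geo.similarityGroup f ↔ trL L g ∈ Cfsg.Geo.similarityGroup f' := by
  refine exists_congr fun c => ⟨fun hc u v => ?_, fun hc u v => ?_⟩
  · obtain ⟨x, rfl⟩ := L.surjective u
    obtain ⟨y, rfl⟩ := L.surjective v
    rw [trL_mulVec', trL_mulVec', h, h, hc]; ring
  · have := hc (L u) (L v)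
    rw [trL_mulVec', trL_mulVec', h, h] at this
    exact mul_left_cancel₀ hk (by linear_combination this)

theorem isometry_iff (L : (ι → F) ≃ₗ[F] (κ → F)) {Q : (ι → F) → F} {Q' : (κ → F) → F} {k : F}
    (hk : k ≠ 0) (h : ∀ x, Q' (L x) = k * Q x) (g : GL ι F) :
    g ∈ Cfsg.isometryGroup F Q ↔ trL L g ∈ Cfsg.isometryGroup F Q' := by
  show (∀ u v : ι → F, Q ((g : Matrix ι ι F) *ᵥ u) = Q u) ↔
    ∀ u v : κ → F, Q' (((trL L g : GL κ F) : Matrix κ κ F) *ᵥ u) = Q' u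
  refine ⟨fun hc u _ => ?_, fun hc u _ => ?_⟩
  · obtain ⟨x, rfl⟩ := L.surjective u
    rw [trL_mulVec', h, h, hc x x]
  · have := hc (L u) (L u)
    rw [trL_mulVec', h, h] at this
    exact mul_left_cancel₀ hk this

/-- A subgroup meeting every scalar coset once. -/
theorem projQuot_equiv {H K : Subgroup (GL ι F)} (hKH : K ≤ H)
    (hs : ∀ h ∈ H, ∃ z ∈ Cfsg.Geo.scalars ι F, z * h ∈ K) (hi : ∀ k ∈ K, k ∈ Cfsg.Geo.scalars ι F → k = 1) :
    Nonempty (K ≃* Cfsg.projQuot H) := by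
  let f : K →* Cfsg.projQuot H := (QuotientGroup.mk' _).comp (Subgroup.inclusion hKH)
  refine ⟨MulEquiv.ofBijective f ⟨?_, fun x => ?_⟩⟩
  · rw [injective_iff_map_eq_one]
    intro k hk
    exact Subtype.ext (hi _ k.2 ((QuotientGroup.eq_one_iff (Subgroup.inclusion hKH k)).1 hk))
  · induction x using QuotientGroup.induction_on with
    | H h =>
      obtain ⟨z, hz, hzh⟩ := hs h h.2
      refine ⟨⟨_, hzh⟩, ?_⟩
      refine (QuotientGroup.eq).2 (show ((z * (h : GL ι F))⁻¹ * (h : GL ι F)) ∈ Cfsg.Geo.scalars ι F from ?_)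
      rw [_root_.mul_inv_rev, mul_assoc]
      obtain ⟨c, hc⟩ := (Cfsg.Geo.mem_scalars_iff _).1 (inv_mem hz)
      exact (Cfsg.Geo.mem_scalars_iff _).2 ⟨c, by
        rw [Units.val_mul, Units.val_mul, hc, smul_mul_assoc, one_mul, mul_smul_comm, Units.inv_mul]⟩

theorem quadSim_eq (h2 : (2 : F) ≠ 0) (Q : QuadraticForm F (ι → F)) :
    Cfsg.Geo.quadSimilarityGroup (F := F) (⇑Q) = Cfsg.Geo.similarityGroup (QuadraticMap.polar (⇑Q)) := by
  ext g
  refine exists_congr fun c => ⟨fun h u v => ?_, fun h v => ?_⟩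
  · simp only [QuadraticMap.polar, ← Matrix.mulVec_add, h]; ring
  · have := h v v
    rw [QuadraticMap.polar_self, QuadraticMap.polar_self, nsmul_eq_mul, nsmul_eq_mul, Nat.cast_ofNat] at this
    exact mul_left_cancel₀ h2 (by linear_combination this)

end Forms

variable {F : Type*} [Field F] [Fintype F] {n : ℕ}

local notation "GLn" => GL (Fin n) F
local notation "Pn" => Matrix.ProjectiveSpecialLinearGroup (Fin n) F
local notation "Mn" => Matrix (Fin n) (Fin n) F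

/-- The graph automorphism of a matrix. -/
noncomputable def gam (A : GLn) : MulAut Pn := conjP A * graphP

/-- The similarity group of a matrix. -/
abbrev Sim (A : GLn) : Subgroup GLn := Cfsg.Geo.similarityGroup (formOf (A : Mn))

theorem mem_Sim (A h : GLn) : h ∈ Sim A ↔ ∃ c : Fˣ, (h : Mn)ᵀ * (A : Mn) * (h : Mn) = (c : F) • (A : Mn) := by
  refine exists_congr fun c => ⟨fun e => formOf_ext fun x y => ?_, fun e x y => ?_⟩
  · rw [← formOf_mulVec, formOf_smul, e]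
  · rw [formOf_mulVec, e, formOf_smul]

theorem coe_sc_mul (u : Fˣ) (A : GLn) : ((sc u * A : GLn) : Mn) = (u : F) • (A : Mn) := by
  rw [Units.val_mul, coe_sc, scalar_apply, ← smul_one_eq_diagonal, smul_mul_assoc, one_mul]

theorem eq_sc_mul {u : Fˣ} {A B : GLn} : B = sc u * A ↔ (B : Mn) = (u : F) • (A : Mn) := by
  rw [← coe_sc_mul, Units.ext_iff]

theorem conjP_eq_one_iff (hn : 2 ≤ n) (g : GLn) : (conjP g : MulAut Pn) = 1 ↔ ∃ u : Fˣ, g = sc u := by
  constructor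
  · intro h
    exact exists_sc (conjP_fieldP_eq_one hn (σ := 1) (by rw [h, map_one, one_mul])).1 (by omega)
  · rintro ⟨u, rfl⟩
    exact conjP_scalar (sc_mem_center u)

theorem gam_eq_iff (hn : 2 ≤ n) (A B : GLn) : gam A = gam B ↔ ∃ u : Fˣ, (B : Mn) = (u : F) • (A : Mn) := by
  rw [gam, gam, mul_left_inj, eq_comm, ← mul_inv_eq_one, ← map_inv, ← map_mul, conjP_eq_one_iff hn]
  refine exists_congr fun u => ?_
  rw [mul_inv_eq_iff_eq_mul, eq_sc_mul]

theorem conj_gam (g A : GLn) :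
    (conjP g : MulAut Pn) * gam A * (conjP g)⁻¹ = gam (g * A * glInvT g⁻¹) := by
  rw [gam, gam, ← map_inv, mul_assoc (conjP g), mul_assoc (conjP A), graphP_mul_conjP, map_mul, map_mul]
  group

theorem coe_congr (g A : GLn) : ((g * A * glInvT g⁻¹ : GLn) : Mn) = (g : Mn) * (A : Mn) * (g : Mn)ᵀ := by
  rw [Units.val_mul, Units.val_mul, coe_glInvT, inv_inv]

theorem exists_gam {γ : MulAut Pn} (h : Cfsg.IsGraphAutClassPSL γ) : ∃ A : GLn, γ = gam A := by
  obtain ⟨-, δ, ι', hδ, hι, rfl⟩ := h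
  have hd : δ ∈ (conjP : GLn →* MulAut Pn).range := inndiag_eq (F := F) (n := n) ▸ Subgroup.subset_closure hδ
  obtain ⟨A, rfl⟩ := hd
  exact ⟨A, by rw [gam, eq_graphP hι]⟩

theorem isGraph_gam (hn : 3 ≤ n) (A : GLn) : Cfsg.IsGraphAutClassPSL (gam A) :=
  ⟨hn, _, _, isInnerDiagonal_conjP A, isInverseTranspose_graphP, rfl⟩

theorem gam_sq_iff (hn : 2 ≤ n) (A : GLn) :
    gam A * gam A = 1 ↔ (A : Mn)ᵀ = A ∨ (A : Mn)ᵀ = -(A : Mn) := by
  have hA0 : (A : Mn) ≠ 0 := by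
    intro h
    have := A.mul_inv
    rw [h, zero_mul] at this
    exact one_ne_zero (α := F) (by simpa using (congrFun (congrFun this ⟨0, by omega⟩) ⟨0, by omega⟩).symm)
  rw [show gam A * gam A = conjP (A * glInvT A) by
    rw [gam, mul_assoc, ← mul_assoc graphP, graphP_mul_conjP, mul_assoc, graphP_mul_self, mul_one, map_mul],
    conjP_eq_one_iff hn]
  constructor
  · rintro ⟨u, hu⟩
    have e : (A : Mn) = (u : F) • (A : Mn)ᵀ := by
      have := congrArg Units.val (eq_mul_inv_iff_mul_eq.2 hu)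
      rwa [coe_sc_mul, ← map_inv, coe_glInvT, inv_inv] at this
    have e' : (A : Mn)ᵀ = (u : F) • (A : Mn) := by
      conv_lhs => rw [e]
      rw [transpose_smul, transpose_transpose]
    have h2 : ((u : F) * u - 1) • (A : Mn) = 0 := by rw [sub_smul, one_smul, mul_smul, ← e', ← e, sub_self]
    rcases mul_self_eq_one_iff.1 (sub_eq_zero.1 ((smul_eq_zero.1 h2).resolve_right hA0)) with h | h
    · exact .inl (by rw [e', h, one_smul])
    · exact .inr (by rw [e', h, neg_smul, one_smul])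
  · intro h
    obtain ⟨u, hu⟩ : ∃ u : Fˣ, (A : Mn) = (u : F) • (A : Mn)ᵀ := by
      rcases h with h | h
      · exact ⟨1, by rw [h, Units.val_one, one_smul]⟩
      · exact ⟨-1, by rw [h, Units.val_neg, Units.val_one, smul_neg, neg_smul, one_smul, neg_neg]⟩
    refine ⟨u, eq_mul_inv_iff_mul_eq.1 (Units.ext ?_)⟩
    rw [coe_sc_mul, ← map_inv, coe_glInvT, inv_inv]
    exact hu

theorem gam_ne_one (hn : 3 ≤ n) (A : GLn) : gam A ≠ 1 := by
  intro h
  refine graphP_ne_one (F := F) (n := n) (by omega) (inner_imp hn (g := A) (σ := 1) (γ := graphP) (x := 1)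
    (Or.inr rfl) ?_).1
  rw [map_one fieldP, mul_one, map_one MulAut.conj]
  exact h

theorem orderOf_gam (hn : 3 ≤ n) (A : GLn) :
    orderOf (gam A) = 2 ↔ (A : Mn)ᵀ = A ∨ (A : Mn)ᵀ = -(A : Mn) := by
  rw [orderOf_eq_prime_iff, pow_two, ← gam_sq_iff (by omega) A]
  exact and_iff_left (gam_ne_one hn A)

theorem comm_iff (hn : 2 ≤ n) (g A : GLn) :
    (conjP g : MulAut Pn) * gam A = gam A * conjP g ↔ glInvT g ∈ Sim A := by
  rw [← mul_inv_eq_iff_eq_mul, conj_gam, eq_comm, gam_eq_iff hn, ← inv_mem_iff (x := glInvT g), ← map_inv, mem_Sim,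
    coe_congr, coe_glInvT, inv_inv, transpose_transpose]

theorem mem_centralizer_iff (hn : 2 ≤ n) {A : GLn} {x : MulAut Pn} :
    x ∈ Cfsg.inndiagPSL n F ⊓ Subgroup.centralizer {gam A} ↔ ∃ g : GLn, glInvT g ∈ Sim A ∧ conjP g = x := by
  rw [Subgroup.mem_inf, Subgroup.mem_centralizer_singleton_iff, inndiag_eq]
  constructor
  · rintro ⟨⟨g, rfl⟩, h⟩
    exact ⟨g, (comm_iff hn g A).1 h, rfl⟩
  · rintro ⟨g, hg, rfl⟩
    exact ⟨⟨g, rfl⟩, (comm_iff hn g A).2 hg⟩

theorem isConjUnder_gam_iff (hn : 2 ≤ n) (A B : GLn) :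
    Cfsg.IsConjUnder (Cfsg.inndiagPSL n F) (gam A) (gam B) ↔
      ∃ (g : GLn) (u : Fˣ), (g : Mn) * (A : Mn) * (g : Mn)ᵀ = (u : F) • (B : Mn) := by
  constructor
  · rintro ⟨h, hh, e⟩
    rw [inndiag_eq] at hh
    obtain ⟨g, rfl⟩ := hh
    rw [conj_gam, gam_eq_iff hn] at e
    obtain ⟨u, hu⟩ := e
    exact ⟨g, u, by rw [← hu, coe_congr]⟩
  · rintro ⟨g, u, hu⟩
    refine ⟨conjP g, inndiag_eq (F := F) (n := n) ▸ ⟨g, rfl⟩, ?_⟩
    rw [conj_gam, gam_eq_iff hn]
    exact ⟨u, by rw [coe_congr, hu]⟩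

section Frames

variable {ι : Type} [Fintype ι] [DecidableEq ι]

/-- A bilinear form similar to that of the matrix. -/
def HasFrame (A : GLn) (f : (ι → F) → (ι → F) → F) : Prop :=
  ∃ (L : (ι → F) ≃ₗ[F] (Fin n → F)) (k : F), k ≠ 0 ∧ ∀ x y, formOf (A : Mn) (L x) (L y) = k * f x y

theorem cent_equiv (hn : 2 ≤ n) {A : GLn} {f : (ι → F) → (ι → F) → F} (hA : HasFrame A f) :
    Nonempty (↥(Cfsg.inndiagPSL n F ⊓ Subgroup.centralizer {gam A}) ≃*
      Cfsg.projQuot (Cfsg.Geo.similarityGroup f)) := by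
  obtain ⟨L, k, hk, h⟩ := hA
  set H := Cfsg.Geo.similarityGroup f
  set C := Cfsg.inndiagPSL n F ⊓ Subgroup.centralizer {gam A}
  let ψ : H →* C := ((conjP : GLn →* MulAut Pn).comp
      ((glInvT.symm.toMonoidHom.comp (trL L).toMonoidHom).comp H.subtype)).codRestrict C fun x =>
    (mem_centralizer_iff hn).2 ⟨glInvT.symm (trL L x), by
      rw [MulEquiv.apply_symm_apply]; exact (similarity_iff L hk h _).1 x.2, rfl⟩
  have hs : Function.Surjective ψ := by
    rintro ⟨x, hx⟩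
    obtain ⟨g, hg, rfl⟩ := (mem_centralizer_iff hn).1 hx
    refine ⟨⟨(trL L).symm (glInvT g), ?_⟩, Subtype.ext ?_⟩
    · rw [similarity_iff L hk h, MulEquiv.apply_symm_apply]; exact hg
    · show conjP (glInvT.symm (trL L ((trL L).symm (glInvT g)))) = _
      rw [MulEquiv.apply_symm_apply, MulEquiv.symm_apply_apply]
  have hker : ψ.ker = (Cfsg.Geo.scalars ι F).subgroupOf H := by
    ext x
    rw [MonoidHom.mem_ker, Subgroup.mem_subgroupOf, ← trL_mem_scalars L, Subtype.ext_iff]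
    show (conjP (glInvT.symm (trL L x)) : MulAut Pn) = 1 ↔ _
    rw [conjP_eq_one_iff hn]
    have hiv : ∀ u : Fˣ, (glInvT (sc u) : GLn) = sc u⁻¹ := fun u => Units.ext (by
      rw [coe_glInvT, ← map_inv, coe_sc, scalar_apply, diagonal_transpose])
    constructor
    · rintro ⟨u, hu⟩
      rw [MulEquiv.symm_apply_eq, hiv] at hu
      exact ⟨u⁻¹, hu.symm⟩
    · rintro ⟨u, hu⟩
      refine ⟨u⁻¹, ?_⟩
      rw [MulEquiv.symm_apply_eq, hiv, inv_inv]
      exact hu.symm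
  exact ⟨((QuotientGroup.quotientMulEquivOfEq hker.symm).trans
    (QuotientGroup.quotientKerEquivOfSurjective ψ hs)).symm⟩

theorem HasFrame.compare {A : GLn} {κ : Type} [Fintype κ] [DecidableEq κ] {f : (ι → F) → (ι → F) → F}
    {f' : (κ → F) → (κ → F) → F} (h : HasFrame A f) (h' : HasFrame A f') :
    ∃ (M : (ι → F) ≃ₗ[F] (κ → F)) (k : F), k ≠ 0 ∧ ∀ x y, f' (M x) (M y) = k * f x y := by
  obtain ⟨L, k, hk, h⟩ := h
  obtain ⟨L', k', hk', h'⟩ := h'
  refine ⟨L.trans L'.symm, k'⁻¹ * k, mul_ne_zero (inv_ne_zero hk') hk, fun x y => ?_⟩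
  have := h' (L'.symm (L x)) (L'.symm (L y))
  rw [LinearEquiv.apply_symm_apply, LinearEquiv.apply_symm_apply, h] at this
  rw [LinearEquiv.trans_apply, LinearEquiv.trans_apply, mul_assoc, this, inv_mul_cancel_left₀ hk']

theorem HasFrame.conj (hn : 2 ≤ n) {A B : GLn} {f : (ι → F) → (ι → F) → F} (hA : HasFrame A f)
    (hB : HasFrame B f) : Cfsg.IsConjUnder (Cfsg.inndiagPSL n F) (gam A) (gam B) := by
  obtain ⟨L, k, hk, hA⟩ := hA
  obtain ⟨L', k', hk', hB⟩ := hB
  set g : GLn := (Matrix.GeneralLinearGroup.toLin.symm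
    (LinearMap.GeneralLinearGroup.ofLinearEquiv (L'.symm.trans L)))
  have hg : ∀ x, (g : Mn) *ᵥ x = L (L'.symm x) := fun x => by
    rw [← Matrix.mulVecLin_apply, ← Matrix.GeneralLinearGroup.coe_toLin, MulEquiv.apply_symm_apply]
    rfl
  rw [isConjUnder_gam_iff hn]
  refine ⟨glInvT g⁻¹, Units.mk0 (k * k'⁻¹) (mul_ne_zero hk (inv_ne_zero hk')), ?_⟩
  rw [coe_glInvT, inv_inv, transpose_transpose]
  refine formOf_ext fun x y => ?_
  have e := hB (L'.symm x) (L'.symm y)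
  rw [LinearEquiv.apply_symm_apply, LinearEquiv.apply_symm_apply] at e
  rw [← formOf_mulVec, hg, hg, hA, formOf_smul, Units.val_mk0, e, mul_assoc, inv_mul_cancel_left₀ hk']

theorem HasFrame.of_conj (hn : 2 ≤ n) {A B : GLn} {f : (ι → F) → (ι → F) → F} (hA : HasFrame A f)
    (h : Cfsg.IsConjUnder (Cfsg.inndiagPSL n F) (gam A) (gam B)) : HasFrame B f := by
  obtain ⟨L, k, hk, hA⟩ := hA
  obtain ⟨g, u, hu⟩ := (isConjUnder_gam_iff hn A B).1 h
  set M : (Fin n → F) ≃ₗ[F] (Fin n → F) :=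
    LinearMap.GeneralLinearGroup.toLinearEquiv (Matrix.GeneralLinearGroup.toLin (glInvT g))
  have hM : ∀ x, M x = ((glInvT g : GLn) : Mn) *ᵥ x := fun x => rfl
  refine ⟨L.trans M, k / u, div_ne_zero hk u.ne_zero, fun x y => ?_⟩
  have e : formOf (A : Mn) (L x) (L y) = (u : F) * formOf (B : Mn) (M (L x)) (M (L y)) := by
    rw [← formOf_smul, ← hu, hM, hM, formOf_mulVec, coe_glInvT, transpose_transpose]
    congr 2
    simp [Matrix.mul_assoc, ← Matrix.transpose_mul]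
  rw [hA] at e
  rw [LinearEquiv.trans_apply, LinearEquiv.trans_apply, div_mul_eq_mul_div, eq_div_iff u.ne_zero, e]
  ring

theorem exists_frame (hι : Fintype.card ι = n) (B : LinearMap.BilinForm F (ι → F))
    (hB : B.Nondegenerate) {ε : F} (hε : ∀ x y, B y x = ε * B x y) :
    ∃ A : GLn, (A : Mn)ᵀ = ε • (A : Mn) ∧ HasFrame A (fun x y => B x y) := by
  let e : Fin n ≃ ι := (Fintype.equivFinOfCardEq hι).symm
  let L : (ι → F) ≃ₗ[F] (Fin n → F) := LinearEquiv.funCongrLeft F F e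
  let B' : LinearMap.BilinForm F (Fin n → F) := B.comp L.symm.toLinearMap L.symm.toLinearMap
  set M : Mn := LinearMap.BilinForm.toMatrix' B'
  have hM : ∀ x y, formOf M x y = B (L.symm x) (L.symm y) := fun x y => by
    rw [formOf, ← Matrix.toBilin'_apply', Matrix.toBilin'_toMatrix']
    rfl
  have hdet : M.det ≠ 0 := by
    intro h0
    obtain ⟨v, hv, hv0⟩ := Matrix.exists_mulVec_eq_zero_iff.2 h0
    refine hv (L.symm.map_eq_zero_iff.1 (hB.2 _ fun x => ?_))
    have h := hM (L x) v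
    rw [formOf, hv0, dotProduct_zero, LinearEquiv.symm_apply_apply] at h
    exact h.symm
  refine ⟨GeneralLinearGroup.mkOfDetNeZero M hdet, formOf_ext fun x y => ?_, L, 1, one_ne_zero, fun x y => ?_⟩
  · show formOf Mᵀ x y = formOf (ε • M) x y
    rw [formOf_transpose, formOf_smul, hM, hM, hε]
  · show formOf M _ _ = _
    rw [hM, LinearEquiv.symm_apply_apply, LinearEquiv.symm_apply_apply, one_mul]

end Frames

end Cfsg.Lib.Known.AutPSLn.Invol
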