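import Cfsg.Agent.Known.AutPSLn.Invol.Odd

/-!
The class of the inverse transpose in even dimension and odd characteristic: a discriminant.
-/

set_option autoImplicit false
set_option linter.unusedSectionVars false
set_option linter.unusedSimpArgs false

namespace Cfsg.Lib.Known.AutPSLn.Invol

open Matrix Cfsg.Lib.Classical

variable {F : Type*} [Field F] [Fintype F] {n : ℕ}

local notation "GLn" => GL (Fin n) F
local notation "Mn" => Matrix (Fin n) (Fin n) F

theorem isSquare_det_of_frame {ι : Type} [Fintype ι] [DecidableEq ι] {m : ℕ} (hι : Fintype.card ι = n)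
    (hnm : n = 2 * m) {f : (ι → F) → (ι → F) → F} (P : Matrix ι ι F) (hP : ∀ x y, formOf P x y = f x y)
    (h : HasFrame (1 : GLn) f) : IsSquare P.det := by
  obtain ⟨L, k, hk, h⟩ := h
  let e : ι ≃ Fin n := Fintype.equivFinOfCardEq hι
  let L' : (ι → F) ≃ₗ[F] (ι → F) := L.trans (LinearEquiv.funCongrLeft F F e)
  set M : Matrix ι ι F := LinearMap.toMatrix' L'.toLinearMap
  have hM : ∀ x, M *ᵥ x = L' x := fun x => LinearMap.toMatrix'_mulVec _ x
  have hMM : Mᵀ * M = k • P := formOf_ext fun x y => by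
    have e1 : formOf (Mᵀ * M) x y = formOf (1 : Matrix ι ι F) (M *ᵥ x) (M *ᵥ y) := by
      rw [formOf_mulVec, Matrix.mul_one]
    rw [e1, hM, hM, formOf_smul, hP, ← h, Units.val_one, formOf, formOf, one_mulVec, one_mulVec]
    exact e.sum_comp (fun i => L x i * L y i)
  have hd := congrArg Matrix.det hMM
  rw [det_mul, det_transpose, det_smul, hι, hnm] at hd
  refine ⟨M.det / k ^ m, ?_⟩
  rw [show k ^ (2 * m) = k ^ m * k ^ m by ring] at hd
  field_simp
  linear_combination -hd

theorem det_hyp (m : ℕ) :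
    (Matrix.fromBlocks 0 1 1 0 : Matrix (Fin m ⊕ Fin m) (Fin m ⊕ Fin m) F).det = (-1) ^ m := by
  have e : (Matrix.fromBlocks 1 1 0 1 : Matrix (Fin m ⊕ Fin m) (Fin m ⊕ Fin m) F) * Matrix.fromBlocks 0 1 1 0 =
      Matrix.fromBlocks 1 1 1 0 := by simp [fromBlocks_multiply]
  have h := congrArg Matrix.det e
  rw [det_mul, det_fromBlocks_zero₂₁, det_fromBlocks_one₁₁] at h
  simpa [det_neg] using h

theorem inv_transpose (hodd : Odd (Fintype.card F)) {m : ℕ} (hm : 2 ≤ m) (hnm : n = 2 * m)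
    (ι' : MulAut (Matrix.ProjectiveSpecialLinearGroup (Fin n) F)) (hι : Cfsg.IsInverseTransposeAutPSL ι') :
    (Even (n * (Fintype.card F - 1) / 4) → Nonempty (↥(Cfsg.inndiagPSL n F ⊓ Subgroup.centralizer {ι'}) ≃*
      Cfsg.PGO F (Cfsg.quadFormPlus m F))) ∧
    (¬ Even (n * (Fintype.card F - 1) / 4) → ∃ a b : F,
      (∀ z₁ z₂ : F, z₁ ^ 2 + a * z₁ * z₂ + b * z₂ ^ 2 = 0 → z₁ = 0 ∧ z₂ = 0) ∧
      Nonempty (↥(Cfsg.inndiagPSL n F ⊓ Subgroup.centralizer {ι'}) ≃*
        Cfsg.PGO F (Cfsg.quadFormMinus (m - 1) F a b))) := by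
  have h2 := Refl.two_ne_zero_of_odd hodd
  obtain rfl : ι' = gam (1 : GLn) := by rw [gam, map_one, one_mul, eq_graphP hι]
  obtain ⟨ζ, hζ⟩ := exists_root_free F
  have hA : ((1 : GLn) : Mn)ᵀ = (1 : GLn) := by simp
  have hpar : Even (n * (Fintype.card F - 1) / 4) ↔ IsSquare ((-1 : F) ^ m) := by
    obtain ⟨k, hk⟩ := hodd
    rw [show n * (Fintype.card F - 1) / 4 = m * k by
      rw [hnm, hk, show 2 * k + 1 - 1 = 2 * k by omega, show 2 * m * (2 * k) = 4 * (m * k) by ring]
      exact Nat.mul_div_cancel_left _ (by norm_num), Nat.even_mul]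
    rcases Nat.even_or_odd m with hme | hmo
    · simp [hme, hme.neg_one_pow]
    · rw [hmo.neg_one_pow, FiniteField.isSquare_neg_one_iff, hk]
      rw [or_iff_right (Nat.not_even_iff_odd.2 hmo), Nat.even_iff]
      omega
  rcases frame_even h2 hA hnm with hf | hf
  · have hev : Even (n * (Fintype.card F - 1) / 4) := by
      rw [hpar, ← det_hyp]
      refine isSquare_det_of_frame (by simp; omega) hnm _ (fun x y => ?_) hf
      simp [formOf, fromBlocks_mulVec, dotProduct, Fintype.sum_sum_type, QuadraticMap.polar, Cfsg.quadFormPlus,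
        ← Finset.sum_add_distrib, ← Finset.sum_sub_distrib]
      exact Finset.sum_congr rfl fun i _ => by ring
    exact ⟨fun _ => cent_plus (by omega) h2 hf, fun h => absurd hev h⟩
  · have hnev : ¬ Even (n * (Fintype.card F - 1) / 4) := by
      obtain ⟨k, rfl⟩ : ∃ k, m = k + 1 := ⟨m - 1, by omega⟩
      let P : Matrix ((Fin k ⊕ Fin k) ⊕ Fin 2) ((Fin k ⊕ Fin k) ⊕ Fin 2) F :=
        Matrix.fromBlocks (Matrix.fromBlocks 0 1 1 0) 0 0 !![2, 1; 1, 2 * ζ]
      have hd : P.det = (-1) ^ (k + 1) * (1 - 4 * ζ) := by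
        simp only [P, det_fromBlocks_zero₂₁, det_hyp, det_fin_two_of, pow_succ]
        ring
      have hsq : IsSquare P.det := isSquare_det_of_frame (by simp; omega) hnm P (fun x y => by
        simp [P, formOf, fromBlocks_mulVec, dotProduct, mulVec, Fintype.sum_sum_type, Fin.sum_univ_two,
          QuadraticMap.polar, Cfsg.quadFormMinus, Matrix.one_apply, Finset.sum_add_distrib, add_mul, mul_add]
        rw [Finset.sum_congr rfl fun i _ => mul_comm (x (Sum.inl (Sum.inr i))) (y (Sum.inl (Sum.inl i)))]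
        ring) (hf ζ hζ)
      rw [hpar]
      intro hs
      rw [hd] at hsq
      have h1 : IsSquare (1 - 4 * ζ) := by
        have := hs.mul hsq
        rwa [← mul_assoc, ← pow_add, ← two_mul, pow_mul, neg_one_sq, one_pow, one_mul] at this
      obtain ⟨r, hr⟩ := h1
      exact hζ ((r - 1) / 2) (by field_simp; linear_combination -hr)
    exact ⟨fun h => absurd h hnev, fun _ => ⟨1, ζ, OrthCount.aniso_of_root_free hζ, cent_minus (by omega) h2 (hf ζ hζ)⟩⟩

end Cfsg.Lib.Known.AutPSLn.Invol
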