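import Cfsg.Agent.Known.AutPSLn.Invol.Models

/-!
Symmetric classes of involutory graph automorphisms in odd characteristic.
-/

set_option autoImplicit false
set_option linter.unusedSectionVars false
set_option linter.style.haveILetI false
set_option linter.unusedSimpArgs false

namespace Cfsg.Lib.Known.AutPSLn.Invol

open Matrix Cfsg.Lib.Classical Cfsg.Lib.FormNormal

variable {F : Type*} [Field F] [Fintype F] {n : ℕ}

local notation "GLn" => GL (Fin n) F
local notation "Mn" => Matrix (Fin n) (Fin n) F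

/-- The quadratic form of a symmetric matrix. -/
noncomputable def quadOf (A : Mn) : QuadraticForm F (Fin n → F) := (Matrix.toBilin' ((2 : F)⁻¹ • A)).toQuadraticMap

theorem polar_quadOf (h2 : (2 : F) ≠ 0) {A : Mn} (hA : Aᵀ = A) (x y : Fin n → F) :
    QuadraticMap.polar (⇑(quadOf A)) x y = formOf A x y := by
  rw [quadOf, LinearMap.BilinMap.polar_toQuadraticMap, Matrix.toBilin'_apply', Matrix.toBilin'_apply']
  show formOf ((2 : F)⁻¹ • A) x y + formOf ((2 : F)⁻¹ • A) y x = _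
  rw [formOf_smul, formOf_smul, ← formOf_transpose A x y, hA]
  field_simp
  ring

theorem quadOf_nondeg (h2 : (2 : F) ≠ 0) {A : GLn} (hA : (A : Mn)ᵀ = A) :
    (QuadraticMap.polarBilin (quadOf (A : Mn))).Nondegenerate := by
  have e : QuadraticMap.polarBilin (quadOf (A : Mn)) = Matrix.toBilin' (A : Mn) :=
    LinearMap.ext fun x => LinearMap.ext fun y => by
      rw [Matrix.toBilin'_apply']; exact polar_quadOf h2 hA x y
  rw [e]
  exact toBilin_nondeg A

theorem frame_of_quad {ι : Type} [Fintype ι] [DecidableEq ι] (h2 : (2 : F) ≠ 0) {A : GLn} (hA : (A : Mn)ᵀ = A)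
    (L : (ι → F) ≃ₗ[F] (Fin n → F)) {c : F} (hc : c ≠ 0) {P : (ι → F) → F}
    (h : ∀ x, quadOf (A : Mn) (L x) = c * P x) : HasFrame A (QuadraticMap.polar P) :=
  ⟨L, c, hc, fun x y => by
    rw [← polar_quadOf h2 hA]
    simp only [QuadraticMap.polar, ← map_add, h]
    ring⟩

theorem frame_odd (h2 : (2 : F) ≠ 0) {A : GLn} (hA : (A : Mn)ᵀ = A) {m : ℕ} (hnm : n = 2 * m + 1) :
    HasFrame A (QuadraticMap.polar (Cfsg.quadFormOdd m F)) := by
  obtain ⟨g, c, hc, h⟩ := OrthGlue.odd_equiv (m := m) (by rw [Module.finrank_fin_fun, hnm]) (quadOf_nondeg h2 hA)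
  exact frame_of_quad h2 hA g hc h

theorem frame_even (h2 : (2 : F) ≠ 0) {A : GLn} (hA : (A : Mn)ᵀ = A) {m : ℕ} (hnm : n = 2 * m) :
    HasFrame A (QuadraticMap.polar (Cfsg.quadFormPlus m F)) ∨
      ∀ ζ : F, (∀ t : F, t ^ 2 + t + ζ ≠ 0) → HasFrame A (QuadraticMap.polar (Cfsg.quadFormMinus (m - 1) F 1 ζ)) := by
  rcases even_basis (quadOf (A : Mn)) (m := m) (by rw [Module.finrank_fin_fun, hnm]) (quadOf_nondeg h2 hA) with
    ⟨D, hD⟩ | ⟨D, hD, hK⟩
  · have h0 : Module.finrank F D.K = 0 := by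
      have := D.dim
      rw [finrank_top, Module.finrank_fin_fun] at this
      omega
    obtain ⟨g, hg⟩ := FormNormal.plus_equiv D hD h0
    exact .inl (frame_of_quad h2 hA g.symm one_ne_zero fun x => by rw [hg, LinearEquiv.apply_symm_apply, one_mul])
  · refine .inr fun ζ hζ => ?_
    obtain ⟨g, hg⟩ := FormNormal.minus_equiv D (show D.m = m - 1 by omega) hK hζ
    exact frame_of_quad h2 hA g.symm one_ne_zero fun x => by rw [hg, LinearEquiv.apply_symm_apply, one_mul]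

theorem exists_quad {ι : Type} [Fintype ι] [DecidableEq ι] (hι : Fintype.card ι = n) (Q : QuadraticForm F (ι → F))
    (hQ : (QuadraticMap.polarBilin Q).Nondegenerate) :
    ∃ A : GLn, (A : Mn)ᵀ = A ∧ HasFrame A (QuadraticMap.polar ⇑Q) := by
  obtain ⟨A, hA, hfr⟩ := exists_frame (n := n) hι (QuadraticMap.polarBilin Q) hQ (ε := 1)
    (fun x y => by rw [one_mul]; exact QuadraticMap.polar_comm _ _ _)
  exact ⟨A, by rw [hA, one_smul], hfr⟩

theorem exists_plus {m : ℕ} (hnm : n = 2 * m) :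
    ∃ A : GLn, (A : Mn)ᵀ = A ∧ HasFrame A (QuadraticMap.polar (Cfsg.quadFormPlus m F)) := by
  obtain ⟨D, -, -, hnd⟩ := OrthGlue.exists_plus_space F m
  have := exists_quad (n := n) (by simp; omega) (HypQuad.plusForm m F) hnd
  rwa [show ⇑(HypQuad.plusForm m F) = Cfsg.quadFormPlus m F from funext (HypQuad.plusForm_apply m)] at this

theorem exists_minus {m : ℕ} (hm : 1 ≤ m) (hnm : n = 2 * m) {ζ : F} (hζ : ∀ t : F, t ^ 2 + t + ζ ≠ 0) :
    ∃ A : GLn, (A : Mn)ᵀ = A ∧ HasFrame A (QuadraticMap.polar (Cfsg.quadFormMinus (m - 1) F 1 ζ)) := by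
  have := exists_quad (n := n) (by simp; omega) (Refl.minusForm (m - 1) F 1 ζ)
    (Refl.minusForm_nondegenerate' (m - 1) (OrthCount.aniso_of_root_free hζ))
  rwa [Refl.minusForm_coe] at this

theorem exists_root_free (F : Type*) [Field F] [Fintype F] : ∃ ζ : F, ∀ t : F, t ^ 2 + t + ζ ≠ 0 := by
  by_contra h
  push Not at h
  have hs : Function.Surjective (fun t : F => t ^ 2 + t) := fun z => by
    obtain ⟨t, ht⟩ := h (-z)
    exact ⟨t, by linear_combination ht⟩
  have := (Finite.injective_iff_surjective.2 hs) (show (fun t : F => t ^ 2 + t) 0 = (fun t : F => t ^ 2 + t) (-1) by ring)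
  exact one_ne_zero (α := F) (by linear_combination this)

theorem cent_pgo {ι : Type} [Fintype ι] [DecidableEq ι] (hn : 2 ≤ n) (h2 : (2 : F) ≠ 0) (Q : QuadraticForm F (ι → F))
    {A : GLn} (hA : HasFrame A (QuadraticMap.polar ⇑Q)) :
    Nonempty (↥(Cfsg.inndiagPSL n F ⊓ Subgroup.centralizer {gam A}) ≃* Cfsg.PGO F ⇑Q) := by
  have := cent_equiv hn hA
  rwa [← quadSim_eq h2] at this

theorem cent_plus (hn : 2 ≤ n) (h2 : (2 : F) ≠ 0) {m : ℕ} {A : GLn}
    (hA : HasFrame A (QuadraticMap.polar (Cfsg.quadFormPlus m F))) :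
    Nonempty (↥(Cfsg.inndiagPSL n F ⊓ Subgroup.centralizer {gam A}) ≃* Cfsg.PGO F (Cfsg.quadFormPlus m F)) := by
  rw [← show ⇑(HypQuad.plusForm m F) = Cfsg.quadFormPlus m F from funext (HypQuad.plusForm_apply m)] at hA ⊢
  exact cent_pgo hn h2 _ hA

theorem cent_minus (hn : 2 ≤ n) (h2 : (2 : F) ≠ 0) {m : ℕ} {a b : F} {A : GLn}
    (hA : HasFrame A (QuadraticMap.polar (Cfsg.quadFormMinus m F a b))) :
    Nonempty (↥(Cfsg.inndiagPSL n F ⊓ Subgroup.centralizer {gam A}) ≃* Cfsg.PGO F (Cfsg.quadFormMinus m F a b)) := by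
  rw [← Refl.minusForm_coe] at hA ⊢
  exact cent_pgo hn h2 _ hA

theorem cent_odd (hn : 2 ≤ n) (h2 : (2 : F) ≠ 0) {m : ℕ} {A : GLn}
    (hA : HasFrame A (QuadraticMap.polar (Cfsg.quadFormOdd m F))) :
    Nonempty (↥(Cfsg.inndiagPSL n F ⊓ Subgroup.centralizer {gam A}) ≃* Cfsg.PGO F (Cfsg.quadFormOdd m F)) := by
  rw [← Refl.oddForm_coe] at hA ⊢
  exact cent_pgo hn h2 _ hA

theorem plus_ne_minus (h2 : (2 : F) ≠ 0) {k : ℕ} {ζ : F} (hζ : ∀ t : F, t ^ 2 + t + ζ ≠ 0) {A : GLn}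
    (hp : HasFrame A (QuadraticMap.polar (Cfsg.quadFormPlus (k + 1) F)))
    (hm : HasFrame A (QuadraticMap.polar (Cfsg.quadFormMinus k F 1 ζ))) : False := by
  obtain ⟨M, c, hc, h⟩ := hp.compare hm
  have hQ : ∀ x, Cfsg.quadFormMinus k F 1 ζ (M x) = c * Cfsg.quadFormPlus (k + 1) F x := fun x => by
    have e := h x x
    rw [← Refl.minusForm_coe, ← show ⇑(HypQuad.plusForm (k + 1) F) = Cfsg.quadFormPlus (k + 1) F from
      funext (HypQuad.plusForm_apply _), polar_self', polar_self'] at e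
    rw [← Refl.minusForm_coe, ← HypQuad.plusForm_apply]
    exact mul_left_cancel₀ h2 (by linear_combination e)
  have e : Nat.card (Cfsg.isometryGroup F (Cfsg.quadFormPlus (k + 1) F)) =
      Nat.card (Cfsg.isometryGroup F (Cfsg.quadFormMinus k F 1 ζ)) :=
    Nat.card_congr ((trL M).toEquiv.subtypeEquiv fun g => isometry_iff M hc hQ g)
  rw [OrthCard.card_plus, OrthCard.card_minus (OrthCount.aniso_of_root_free hζ)] at e
  have hq : 1 < Nat.card F := Finite.one_lt_card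
  have hpr : 0 < OrthCard.prodQ (Nat.card F) k := Finset.prod_pos fun i _ => Nat.sub_pos_of_lt (Nat.one_lt_pow (by omega) hq)
  have e' := Nat.eq_of_mul_eq_mul_left (Nat.mul_pos two_pos (Nat.pow_pos (by omega)))
    (Nat.eq_of_mul_eq_mul_right hpr e)
  omega

theorem no_iso (hodd : Odd (Fintype.card F)) (hn : 3 ≤ n) {m : ℕ} (hnm : n = 2 * m) {A : GLn} (hA : (A : Mn)ᵀ = A)
    (h : Nonempty (↥(Cfsg.inndiagPSL n F ⊓ Subgroup.centralizer {gam A}) ≃* Cfsg.PGSp m F)) : False := by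
  have h2 := Refl.two_ne_zero_of_odd hodd
  obtain ⟨ζ, hζ⟩ := exists_root_free F
  obtain ⟨e⟩ := h
  obtain ⟨k, rfl⟩ : ∃ k, m = k + 1 := ⟨m - 1, by omega⟩
  set q := Nat.card F with hq
  have hq1 : 1 < q := Finite.one_lt_card
  have hsp : q ^ ((k + 1) ^ 2) ∣ 2 * Nat.card (Cfsg.PGSp (k + 1) F) :=
    (Dvd.intro _ (card_symplecticGroup (F := F) (k + 1)).symm).trans card_sp_dvd
  rw [← Nat.card_congr e.toEquiv] at hsp
  have hop : q.Coprime 4 := by
    have : Nat.Coprime q 2 := Nat.coprime_two_right.2 (by rw [hq, Nat.card_eq_fintype_card]; exact hodd)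
    exact Nat.Coprime.pow_right 2 this
  have hc1 : ∀ j, 1 ≤ j → q.Coprime (q ^ j - 1) := fun j hj => by
    refine Nat.Coprime.coprime_dvd_left (dvd_pow_self q (by omega : j ≠ 0)) ?_
    have := Nat.one_le_pow j q (by omega)
    rw [Nat.coprime_self_sub_right this]; exact Nat.coprime_one_right _
  have hc2 : ∀ j, 1 ≤ j → q.Coprime (q ^ j + 1) := fun j hj => by
    refine Nat.Coprime.coprime_dvd_left (dvd_pow_self q (by omega : j ≠ 0)) ?_
    simp
  have hpr : q.Coprime (OrthCard.prodQ q k) := Nat.Coprime.prod_right fun i _ => hc1 _ (by omega)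
  have bad : ∀ R, q.Coprime R → ¬ q ^ ((k + 1) ^ 2) ∣ 4 * (q ^ ((k + 1) * k) * R) := fun R hR hd => by
    rw [show (k + 1) ^ 2 = (k + 1) * k + (k + 1) by ring, pow_add,
      show 4 * (q ^ ((k + 1) * k) * R) = q ^ ((k + 1) * k) * (4 * R) by ring] at hd
    have h' := Nat.dvd_of_mul_dvd_mul_left (Nat.pow_pos (by omega)) hd
    have : q ^ (k + 1) = 1 := Nat.eq_one_of_dvd_coprimes ((hop.mul_right hR).pow_left (k + 1)) dvd_rfl h'
    have := Nat.one_lt_pow (show k + 1 ≠ 0 by omega) hq1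
    omega
  rcases frame_even h2 hA hnm with hf | hf
  · obtain ⟨e'⟩ := cent_plus (by omega) h2 hf
    rw [Nat.card_congr e'.toEquiv] at hsp
    have hd : Nat.card (Cfsg.PGO F (Cfsg.quadFormPlus (k + 1) F)) ∣
        Nat.card (Cfsg.isometryGroup F (Cfsg.quadFormPlus (k + 1) F)) := by
      rw [← show ⇑(HypQuad.plusForm (k + 1) F) = Cfsg.quadFormPlus (k + 1) F from funext (HypQuad.plusForm_apply _)]
      exact card_pgo_dvd _ ⟨Sum.elim 1 (Pi.single 0 1), by simp [HypQuad.plusForm_apply, Cfsg.quadFormPlus, Pi.single_apply]⟩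
    refine bad ((q ^ (k + 1) - 1) * OrthCard.prodQ q k) ((hc1 _ (by omega)).mul_right hpr) ?_
    refine (hsp.trans (mul_dvd_mul_left 2 hd)).trans (dvd_of_eq ?_)
    rw [OrthCard.card_plus]; ring
  · obtain ⟨e'⟩ := cent_minus (by omega) h2 (hf ζ hζ)
    rw [Nat.card_congr e'.toEquiv] at hsp
    have hd : Nat.card (Cfsg.PGO F (Cfsg.quadFormMinus k F 1 ζ)) ∣
        Nat.card (Cfsg.isometryGroup F (Cfsg.quadFormMinus k F 1 ζ)) := by
      rw [← Refl.minusForm_coe]
      exact card_pgo_dvd _ ⟨Pi.single (Sum.inr 0) 1, by simp [Refl.minusForm_coe, Cfsg.quadFormMinus, Pi.single_apply]⟩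
    refine bad ((q ^ (k + 1) + 1) * OrthCard.prodQ q k) ((hc2 _ (by omega)).mul_right hpr) ?_
    refine (hsp.trans (mul_dvd_mul_left 2 hd)).trans (dvd_of_eq ?_)
    rw [OrthCard.card_minus (OrthCount.aniso_of_root_free hζ)]; ring

theorem detSim_symm (h2 : (2 : F) ≠ 0) {A : GLn} (hA : (A : Mn)ᵀ = A) {m : ℕ} (hm : 1 ≤ m) (hnm : n = 2 * m) :
    detSim A = ((powMonoidHom (2 * m) : Fˣ →* Fˣ).range).comap (powMonoidHom 2) := by
  have hnd := quadOf_nondeg h2 hA
  set Q := quadOf (A : Mn)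
  have hpol : ∀ x y, QuadraticMap.polar (⇑Q) x y = formOf (A : Mn) x y := polar_quadOf h2 hA
  have hmem : ∀ (g : GLn) (c : Fˣ), (∀ v, Q ((g : Mn) *ᵥ v) = c * Q v) → GeneralLinearGroup.det g ∈ detSim A :=
    fun g c h => ⟨g, ⟨c, fun u v => by
      rw [← hpol, ← hpol]; simp only [QuadraticMap.polar, ← Matrix.mulVec_add, h]; ring⟩, rfl⟩
  have hneg : (-1 : Fˣ) ∈ detSim A := by
    obtain ⟨v, hv⟩ : ∃ v, Q v ≠ 0 := by
      by_contra h
      push Not at h
      have : Pi.single ⟨0, by omega⟩ (1 : F) = (0 : Fin n → F) := hnd.1 _ fun y => by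
        show QuadraticMap.polar (⇑Q) _ y = 0
        simp [QuadraticMap.polar, h]
      simpa using congrFun this ⟨0, by omega⟩
    have := hmem (Refl.refl Q v hv : GLn) 1 fun w => by
      rw [Units.val_one, one_mul]; exact (Refl.mem_iff Q).1 (Refl.refl Q v hv).2 w
    convert this using 1
    exact Units.ext (Refl.det_eq Q v hv).symm
  ext d
  rw [Subgroup.mem_comap]
  constructor
  · rintro ⟨g, hg, rfl⟩
    obtain ⟨c, hc⟩ := (mem_Sim A g).1 hg
    exact ⟨c, by rw [powMonoidHom_apply, powMonoidHom_apply, det_sim_sq hc, hnm]⟩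
  · rintro ⟨c, hc⟩
    simp only [powMonoidHom_apply] at hc
    obtain ⟨φ, hφ⟩ := similar_even (Q := Q) (n := m) (by rw [Module.finrank_fin_fun, hnm]) hnd c.ne_zero
    set g : GLn := Matrix.GeneralLinearGroup.toLin.symm (LinearMap.GeneralLinearGroup.ofLinearEquiv φ)
    have hg : ∀ x, (g : Mn) *ᵥ x = φ x := fun x => by
      rw [← Matrix.mulVecLin_apply, ← Matrix.GeneralLinearGroup.coe_toLin, MulEquiv.apply_symm_apply]
      rfl
    have hs : ∀ v, Q ((g : Mn) *ᵥ v) = c * Q v := fun v => by rw [hg, hφ]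
    have hcm : (g : GLn) ∈ Sim A := ⟨c, fun u v => by
      rw [← hpol, ← hpol]; simp only [QuadraticMap.polar, ← Matrix.mulVec_add, hs]; ring⟩
    obtain ⟨c', hc'⟩ := (mem_Sim A g).1 hcm
    have hcc : (c' : F) = c := by
      have e : (c' : F) • (A : Mn) = (c : F) • (A : Mn) := by
        rw [← hc']
        refine formOf_ext fun x y => ?_
        rw [← formOf_mulVec, formOf_smul, ← hpol, ← hpol]
        simp only [QuadraticMap.polar, ← Matrix.mulVec_add, hs]; ring
      have h0 : ((c' : F) - c) • (A : Mn) = 0 := by rw [sub_smul, e, sub_self]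
      refine sub_eq_zero.1 ((smul_eq_zero.1 h0).resolve_right fun h => det_ne_zero A ?_)
      haveI : Nonempty (Fin n) := ⟨⟨0, by omega⟩⟩
      rw [h, det_zero]
    have e2 := det_sim_sq hc'
    rw [Units.ext hcc, show c ^ n = c ^ (2 * m) from congrArg (c ^ ·) hnm, hc] at e2
    rcases sq_eq_sq_iff_eq_or_eq_neg.1 (congrArg Units.val e2 |> fun t => by
      simpa only [Units.val_pow_eq_pow_val] using t :
        ((GeneralLinearGroup.det g : Fˣ) : F) ^ 2 = (d : F) ^ 2) with h | h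
    · exact Units.ext h ▸ hmem g c hs
    · have := mul_mem hneg (hmem g c hs)
      convert this using 1
      exact Units.ext (by rw [Units.val_mul, h]; simp)

end Cfsg.Lib.Known.AutPSLn.Invol
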