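import Cfsg.Agent.Known.AutPSLn.Invol.Basic

/-!
How the class of an involutory graph automorphism splits: an index of determinants.
-/

set_option autoImplicit false
set_option linter.unusedSectionVars false
set_option linter.style.haveILetI false

namespace Cfsg.Lib.Known.AutPSLn.Invol

open Matrix

theorem split_count {G X D : Type*} [Group G] [Group X] [CommGroup D] (f : G →* X) (d : G →* D)
    (hd : Function.Surjective d) (x : X) (S : Subgroup G) (hS : ∀ g, g ∈ S ↔ f g * x = x * f g) :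
    Cfsg.splitClassCount f.range (d.ker.map f) x = (S.map d).index := by
  let T := {y : X // Cfsg.IsConjUnder f.range x y}
  let rel : T → T → Prop := fun y z => Cfsg.IsConjUnder (d.ker.map f) y.1 z.1
  let pt : G → T := fun g => ⟨f g * x * (f g)⁻¹, f g, ⟨g, rfl⟩, rfl⟩
  have hpt : Function.Surjective pt := by
    rintro ⟨y, h, ⟨g, rfl⟩, rfl⟩
    exact ⟨g, rfl⟩
  have key : ∀ g h : G, rel (pt g) (pt h) ↔ ((d g : D) : D ⧸ S.map d) = (d h : D) := by
    intro g h
    rw [QuotientGroup.eq]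
    constructor
    · rintro ⟨_, ⟨k, hk, rfl⟩, e⟩
      refine ⟨g⁻¹ * k⁻¹ * h, (hS _).2 ?_, ?_⟩
      · have e' : f h * x * (f h)⁻¹ = f k * (f g * x * (f g)⁻¹) * (f k)⁻¹ := e
        simp only [map_mul, map_inv]
        calc (f g)⁻¹ * (f k)⁻¹ * f h * x = (f g)⁻¹ * (f k)⁻¹ * (f h * x * (f h)⁻¹) * f h := by group
          _ = _ := by rw [e']; group
      · rw [map_mul, map_mul, map_inv, map_inv, MonoidHom.mem_ker.1 hk, inv_one, mul_one]
    · rintro ⟨s, hs, e⟩
      refine ⟨f (h * s⁻¹ * g⁻¹), ⟨_, ?_, rfl⟩, ?_⟩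
      · rw [SetLike.mem_coe, MonoidHom.mem_ker, map_mul, map_mul, map_inv, map_inv, e, _root_.mul_inv_rev, inv_inv]
        group
      · have e1 : (f s)⁻¹ * x = x * (f s)⁻¹ := Commute.inv_left ((hS s).1 hs)
        show f h * x * (f h)⁻¹ = f (h * s⁻¹ * g⁻¹) * (f g * x * (f g)⁻¹) * (f (h * s⁻¹ * g⁻¹))⁻¹
        simp only [map_mul, map_inv]
        calc f h * x * (f h)⁻¹ = f h * (x * (f s)⁻¹) * f s * (f h)⁻¹ := by group
          _ = _ := by rw [← e1]; group
  have heq : Equivalence rel := ⟨fun y => by obtain ⟨g, rfl⟩ := hpt y; exact (key g g).2 rfl,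
    fun {y z} h => by
      obtain ⟨g, rfl⟩ := hpt y; obtain ⟨k, rfl⟩ := hpt z
      exact (key k g).2 ((key g k).1 h).symm,
    fun {y z w} h h' => by
      obtain ⟨g, rfl⟩ := hpt y; obtain ⟨k, rfl⟩ := hpt z; obtain ⟨l, rfl⟩ := hpt w
      exact (key g l).2 (((key g k).1 h).trans ((key k l).1 h'))⟩
  let φ : G → D ⧸ S.map d := fun g => (d g : D)
  let ψ : G → Quot rel := fun g => Quot.mk rel (pt g)
  have hφ : Function.Surjective φ := fun z => by
    obtain ⟨z, rfl⟩ := QuotientGroup.mk_surjective z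
    obtain ⟨g, rfl⟩ := hd z
    exact ⟨g, rfl⟩
  have hψ : Function.Surjective ψ := fun z => by
    induction z using Quot.ind with
    | mk y => obtain ⟨g, rfl⟩ := hpt y; exact ⟨g, rfl⟩
  have hfib : ∀ g h, φ g = φ h ↔ ψ g = ψ h := fun g h => (key g h).symm.trans
    ⟨fun e => Quot.sound e, fun e => heq.eqvGen_iff.1 (Quot.eqvGen_exact e)⟩
  have hker : Setoid.ker φ = Setoid.ker ψ := Setoid.ext fun g h => hfib g h
  show Nat.card (Quot rel) = Nat.card (D ⧸ S.map d)
  rw [← Nat.card_congr (Setoid.quotientKerEquivOfSurjective φ hφ),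
    ← Nat.card_congr (Setoid.quotientKerEquivOfSurjective ψ hψ), hker]

variable {F : Type*} [Field F] [Fintype F] {n : ℕ}

local notation "GLn" => GL (Fin n) F
local notation "Mn" => Matrix (Fin n) (Fin n) F

/-- Determinants of similarities. -/
abbrev detSim (A : GLn) : Subgroup Fˣ := (Sim A).map GeneralLinearGroup.det

theorem det_glInvT (g : GLn) : GeneralLinearGroup.det (glInvT g) = (GeneralLinearGroup.det g)⁻¹ := by
  refine eq_inv_of_mul_eq_one_left (Units.ext ?_)
  show ((g⁻¹ : GLn) : Mn)ᵀ.det * (g : Mn).det = 1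
  rw [det_transpose, ← det_mul, g.inv_mul, det_one]

theorem det_surjective (hn : 0 < n) : Function.Surjective (GeneralLinearGroup.det : GLn →* Fˣ) := fun u => by
  refine ⟨GeneralLinearGroup.mkOfDetNeZero (diagonal (Function.update 1 ⟨0, hn⟩ (u : F))) ?_, Units.ext ?_⟩
  · rw [det_diagonal, Finset.prod_update_of_mem (Finset.mem_univ _)]; simp
  · show (diagonal (Function.update (1 : Fin n → F) ⟨0, hn⟩ (u : F))).det = _
    rw [det_diagonal, Finset.prod_update_of_mem (Finset.mem_univ _)]; simp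

theorem map_ker_eq_inn :
    ((GeneralLinearGroup.det : GLn →* Fˣ).ker).map conjP = Cfsg.Inn (ProjectiveSpecialLinearGroup (Fin n) F) := by
  ext x
  constructor
  · rintro ⟨g, hg, rfl⟩
    have hdet : (g : Mn).det = 1 := congrArg Units.val (MonoidHom.mem_ker.1 hg)
    let M : Matrix.SpecialLinearGroup (Fin n) F := ⟨(g : Mn), hdet⟩
    refine ⟨π M, (conjP_toGL M).symm.trans ?_⟩
    exact congrArg _ (Units.ext rfl)
  · rintro ⟨y, rfl⟩
    obtain ⟨M, rfl⟩ := QuotientGroup.mk_surjective y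
    exact ⟨Matrix.SpecialLinearGroup.toGL M, MonoidHom.mem_ker.2 (Units.ext M.2), conjP_toGL M⟩

theorem split_gam (hn : 2 ≤ n) (A : GLn) :
    Cfsg.splitClassCount (Cfsg.inndiagPSL n F) (Cfsg.Inn (ProjectiveSpecialLinearGroup (Fin n) F)) (gam A) =
      (detSim A).index := by
  rw [← map_ker_eq_inn, inndiag_eq,
    split_count conjP _ (det_surjective (by omega)) (gam A) ((Sim A).comap glInvT.toMonoidHom)
      fun g => (comm_iff hn g A).symm]
  congr 1
  ext d
  constructor
  · rintro ⟨g, hg, rfl⟩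
    exact ⟨(glInvT g)⁻¹, inv_mem hg, by rw [map_inv, det_glInvT, inv_inv]⟩
  · rintro ⟨h, hh, rfl⟩
    refine ⟨glInvT.symm h⁻¹, ?_, ?_⟩
    · show glInvT (glInvT.symm h⁻¹) ∈ Sim A
      rw [MulEquiv.apply_symm_apply]; exact inv_mem hh
    · rw [show GeneralLinearGroup.det (glInvT.symm h⁻¹) = (GeneralLinearGroup.det h⁻¹)⁻¹ from det_glInvT h⁻¹,
        map_inv, inv_inv]

theorem det_trL {ι κ : Type} [Fintype ι] [DecidableEq ι] [Fintype κ] [DecidableEq κ] (L : (ι → F) ≃ₗ[F] (κ → F))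
    (g : GL ι F) : GeneralLinearGroup.det (trL L g) = GeneralLinearGroup.det g := by
  refine Units.ext ?_
  show ((trL L g : GL κ F) : Matrix κ κ F).det = (g : Matrix ι ι F).det
  rw [← LinearMap.det_toLin', ← LinearMap.det_toLin', ← LinearMap.det_conj (Matrix.toLin' (g : Matrix ι ι F)) L]
  congr 1
  refine LinearMap.ext fun x => ?_
  rw [Matrix.toLin'_apply, trL_mulVec]
  rfl

theorem det_sim_sq {A h : GLn} {c : Fˣ} (e : (h : Mn)ᵀ * (A : Mn) * (h : Mn) = (c : F) • (A : Mn)) :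
    GeneralLinearGroup.det h ^ 2 = c ^ n := by
  refine Units.ext ?_
  have := congrArg Matrix.det e
  rw [det_mul, det_mul, det_transpose, det_smul, Fintype.card_fin] at this
  have h0 : (A : Mn).det ≠ 0 := ((Matrix.isUnit_iff_isUnit_det _).1 A.isUnit).ne_zero
  push_cast
  show (h : Mn).det ^ 2 = _
  exact mul_right_cancel₀ h0 (by linear_combination this)

theorem pow_mem_detSim (A : GLn) (u : Fˣ) : u ^ n ∈ detSim A := by
  refine ⟨sc u, (mem_Sim _ _).2 ⟨u * u, ?_⟩, Units.ext ?_⟩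
  · rw [coe_sc, scalar_apply, diagonal_transpose, ← smul_one_eq_diagonal]
    simp [smul_smul]
  · show Matrix.det ((sc u : GLn) : Mn) = _
    rw [coe_sc, scalar_apply, det_diagonal, Finset.prod_const, Finset.card_univ, Fintype.card_fin, Units.val_pow_eq_pow_val]

/-- Odd dimension or characteristic two: only `n`-th powers. -/
theorem detSim_eq_of_odd (A : GLn) (h : Odd n ∨ (2 : F) = 0) : detSim A = (powMonoidHom n : Fˣ →* Fˣ).range := by
  refine le_antisymm ?_ ?_
  · rintro _ ⟨g, hg, rfl⟩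
    obtain ⟨c, hc⟩ := (mem_Sim A g).1 hg
    have h2 := det_sim_sq hc
    set d := GeneralLinearGroup.det g
    obtain ⟨e, rfl⟩ : ∃ e : Fˣ, c = e ^ 2 := by
      rcases h with ⟨k, rfl⟩ | h
      · refine ⟨d * (c ^ k)⁻¹, ?_⟩
        rw [mul_pow, h2, inv_pow, ← pow_mul, pow_succ, mul_comm k 2, mul_comm (c ^ (2 * k)), mul_inv_cancel_right]
      · haveI : CharP F 2 := CharTwo.of_one_ne_zero_of_two_eq_zero one_ne_zero h
        obtain ⟨e, he⟩ := (FiniteField.isSquare_of_char_two (F := F) (ringChar.eq F 2) (c : F))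
        have he0 : e ≠ 0 := fun e0 => c.ne_zero (by rw [he, e0, mul_zero])
        exact ⟨Units.mk0 e he0, Units.ext (by rw [he, Units.val_pow_eq_pow_val, Units.val_mk0, pow_two])⟩
    rw [← pow_mul, mul_comm, pow_mul] at h2
    rcases sq_eq_sq_iff_eq_or_eq_neg.1 (congrArg Units.val h2 |> fun t => by
      simpa only [Units.val_pow_eq_pow_val] using t : (d : F) ^ 2 = ((e : F) ^ n) ^ 2) with h3 | h3
    · exact ⟨e, Units.ext (by simp [h3])⟩
    · rcases h with hn | h
      · exact ⟨-e, Units.ext (by simp [h3, hn.neg_pow])⟩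
      · haveI : CharP F 2 := CharTwo.of_one_ne_zero_of_two_eq_zero one_ne_zero h
        exact ⟨e, Units.ext (by simp [h3, CharTwo.neg_eq])⟩
  · rintro _ ⟨u, rfl⟩
    exact pow_mem_detSim A u

theorem index_pow (k : ℕ) :
    (powMonoidHom k : Fˣ →* Fˣ).range.index = Nat.gcd k (Fintype.card F - 1) := by
  rw [IsCyclic.index_powMonoidHom_range, Nat.card_units, Nat.card_eq_fintype_card, Nat.gcd_comm]

theorem index_sq_root (hodd : Odd (Fintype.card F)) (m : ℕ) :
    (((powMonoidHom (2 * m) : Fˣ →* Fˣ).range).comap (powMonoidHom 2)).index =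
      Nat.gcd (2 * m) (Fintype.card F - 1) / 2 := by
  have hle : (powMonoidHom (2 * m) : Fˣ →* Fˣ).range ≤ (powMonoidHom 2 : Fˣ →* Fˣ).range := by
    rintro _ ⟨u, rfl⟩
    exact ⟨u ^ m, by simp [← pow_mul, mul_comm]⟩
  rw [Subgroup.index_comap, ← index_pow (F := F) (2 * m), ← Subgroup.relIndex_mul_index hle, index_pow (F := F) 2]
  obtain ⟨k, hk⟩ := hodd
  rw [hk, show Nat.gcd 2 (2 * k + 1 - 1) = 2 from Nat.gcd_eq_left ⟨k, by omega⟩, Nat.mul_div_cancel _ (by norm_num)]

end Cfsg.Lib.Known.AutPSLn.Invol
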